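import Mathlib.CategoryTheory.Limits.Types.Pullbacks
import Mathlib.CategoryTheory.Limits.Shapes.Pullback.IsPullback.Basic
import Groth.Prelude.Def_AlgSp

/-!
# Algebraic spaces library, part 1: sections, pullback squares, representable properties

Basic API for `AlgSp.Sp S`, `AlgSp.yon S`, `AlgSp.Representable` and `AlgSp.RepWith`.
-/

universe u

open CategoryTheory CategoryTheory.Limits AlgebraicGeometry Opposite

namespace Groth.Agent.Lib.AlgSpace

variable {S : Scheme.{u}}

open AlgSp (Sp yon Representable RepWith)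

/-- Sections over `T` and maps `h_T ⟶ F`. -/
noncomputable abbrev secEquiv {F : Sp S} (T : Over S) :
    ((yon S).obj T ⟶ F) ≃ F.obj.obj (op T) := (AlgSp.J S).uliftYonedaEquiv

theorem secEquiv_comp {F G : Sp S} {T : Over S} (a : (yon S).obj T ⟶ F) (f : F ⟶ G) :
    secEquiv T (a ≫ f) = f.hom.app (op T) (secEquiv T a) := rfl

theorem secEquiv_map {F : Sp S} {T T' : Over S} (g : T' ⟶ T) (a : (yon S).obj T ⟶ F) :
    secEquiv T' ((yon S).map g ≫ a) = F.obj.map g.op (secEquiv T a) :=
  ((AlgSp.J S).uliftYonedaEquiv_naturality a g).symm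

theorem secEquiv_symm_comp {F G : Sp S} {T : Over S} (x : F.obj.obj (op T)) (f : F ⟶ G) :
    (secEquiv T).symm x ≫ f = (secEquiv T).symm (f.hom.app (op T) x) :=
  (AlgSp.J S).uliftYonedaEquiv_symm_naturality_right T f x

theorem yon_map_comp_secEquiv_symm {F : Sp S} {T T' : Over S} (g : T' ⟶ T) (x : F.obj.obj (op T)) :
    (yon S).map g ≫ (secEquiv T).symm x = (secEquiv T').symm (F.obj.map g.op x) :=
  (AlgSp.J S).uliftYonedaEquiv_symm_naturality_left g F x

/-- Morphisms of sheaves agree if they agree on maps from schemes. -/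
theorem hom_ext {F G : Sp S} {f g : F ⟶ G}
    (h : ∀ (T : Over S) (a : (yon S).obj T ⟶ F), a ≫ f = a ≫ g) : f = g :=
  (AlgSp.J S).hom_ext_uliftYoneda h

/-- Construct a morphism of sheaves from a natural transformation of maps from schemes. -/
noncomputable def homMkYon {F G : Sp S} (φ : ∀ T : Over S, ((yon S).obj T ⟶ F) → ((yon S).obj T ⟶ G))
    (hφ : ∀ {T T' : Over S} (g : T' ⟶ T) (a : (yon S).obj T ⟶ F),
      φ T' ((yon S).map g ≫ a) = (yon S).map g ≫ φ T a) : F ⟶ G :=
  ObjectProperty.homMk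
    { app := fun T ↦ ↾fun x ↦ secEquiv T.unop (φ T.unop ((secEquiv T.unop).symm x))
      naturality := by
        intro T T' g
        ext x
        change secEquiv T'.unop (φ T'.unop ((secEquiv T'.unop).symm (F.obj.map g x))) =
          G.obj.map g (secEquiv T.unop (φ T.unop ((secEquiv T.unop).symm x)))
        have h1 := yon_map_comp_secEquiv_symm g.unop x
        have h2 := secEquiv_map g.unop (φ T.unop ((secEquiv T.unop).symm x))
        rw [Quiver.Hom.op_unop] at h1 h2
        rw [← h2, ← hφ, h1] }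

@[simp]
theorem comp_homMkYon {F G : Sp S} (φ : ∀ T : Over S, ((yon S).obj T ⟶ F) → ((yon S).obj T ⟶ G))
    (hφ : ∀ {T T' : Over S} (g : T' ⟶ T) (a : (yon S).obj T ⟶ F),
      φ T' ((yon S).map g ≫ a) = (yon S).map g ≫ φ T a) {T : Over S} (a : (yon S).obj T ⟶ F) :
    a ≫ homMkYon φ hφ = φ T a := by
  apply (secEquiv T).injective
  rw [secEquiv_comp]
  change secEquiv T (φ T ((secEquiv T).symm (secEquiv T a))) = _
  rw [Equiv.symm_apply_apply]

/-- A commutative square of sheaves is cartesian if it is so on `h_T`-valued points. -/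
theorem isPullback_of_yon {P X Y Z : Sp S} {fst : P ⟶ X} {snd : P ⟶ Y} {f : X ⟶ Z} {g : Y ⟶ Z}
    (w : fst ≫ f = snd ≫ g)
    (inj : ∀ (T : Over S) (c c' : (yon S).obj T ⟶ P),
      c ≫ fst = c' ≫ fst → c ≫ snd = c' ≫ snd → c = c')
    (ex : ∀ (T : Over S) (a : (yon S).obj T ⟶ X) (b : (yon S).obj T ⟶ Y),
      a ≫ f = b ≫ g → ∃ c, c ≫ fst = a ∧ c ≫ snd = b) :
    IsPullback fst snd f g := by
  refine IsPullback.of_map_of_faithful (sheafToPresheaf (AlgSp.J S) (Type (u + 1)))
    (IsPullback.of_forall_isPullback_app fun T ↦ ?_)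
  rw [Types.isPullback_iff]
  refine ⟨?_, fun x x' h ↦ ?_, fun a b h ↦ ?_⟩
  · exact congr($(w).hom.app T)
  · apply (secEquiv T.unop).symm.injective
    apply inj
    · rw [secEquiv_symm_comp, secEquiv_symm_comp]; exact congrArg _ h.1
    · rw [secEquiv_symm_comp, secEquiv_symm_comp]; exact congrArg _ h.2
  · obtain ⟨c, h1, h2⟩ := ex T.unop ((secEquiv T.unop).symm a) ((secEquiv T.unop).symm b)
      (by rw [secEquiv_symm_comp, secEquiv_symm_comp]; exact congrArg _ h)
    refine ⟨secEquiv T.unop c, ?_, ?_⟩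
    · have := congrArg (secEquiv T.unop) h1
      rwa [secEquiv_comp, Equiv.apply_symm_apply] at this
    · have := congrArg (secEquiv T.unop) h2
      rwa [secEquiv_comp, Equiv.apply_symm_apply] at this

/-- A morphism bijective on `h_T`-valued points is an isomorphism. -/
theorem isIso_of_yon {F G : Sp S} (f : F ⟶ G)
    (h : ∀ T : Over S, Function.Bijective fun a : (yon S).obj T ⟶ F ↦ a ≫ f) : IsIso f := by
  choose φ hφ using fun T ↦ (h T).2
  have nat : ∀ {T T' : Over S} (g : T' ⟶ T) (a : (yon S).obj T ⟶ G),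
      φ T' ((yon S).map g ≫ a) = (yon S).map g ≫ φ T a := fun {T T'} g a ↦
    (h T').1 (show _ ≫ f = _ ≫ f by rw [Category.assoc]; exact (hφ T' _).trans (congrArg (_ ≫ ·) (hφ T a).symm))
  refine ⟨homMkYon φ nat, ?_, ?_⟩
  · refine hom_ext fun T a ↦ (h T).1 (show _ ≫ f = _ ≫ f from ?_)
    rw [← Category.assoc a, comp_homMkYon, Category.comp_id]
    exact hφ T _
  · refine hom_ext fun T b ↦ ?_
    rw [← Category.assoc, comp_homMkYon, Category.comp_id]
    exact hφ T b

theorem mono_of_yon {F G : Sp S} (f : F ⟶ G)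
    (h : ∀ T : Over S, Function.Injective fun a : (yon S).obj T ⟶ F ↦ a ≫ f) : Mono f :=
  ⟨fun a b w ↦ hom_ext fun T c ↦ h T (by simp [w])⟩

/-! ### Representable morphisms -/

/-- If `f` is representable, a fibre product of `f` with a scheme is a scheme. -/
theorem exists_iso_yon_of_representable {F G F' : Sp S} {f : F ⟶ G} (hf : Representable f)
    {U : Over S} {ξ : (yon S).obj U ⟶ G} {fst : F' ⟶ F} {snd : F' ⟶ (yon S).obj U}
    (sq : IsPullback fst snd f ξ) :
    ∃ (V : Over S) (g : V ⟶ U) (e : (yon S).obj V ≅ F'), e.hom ≫ snd = (yon S).map g := by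
  refine ⟨hf.pullback ξ, hf.snd ξ, (hf.isPullback ξ).isoIsPullback _ _ sq, ?_⟩
  simp

/-- To prove `RepWith P f`, one represented pullback with property `P` suffices. -/
theorem repWith_of_exists {P : MorphismProperty Scheme.{u}} [P.IsStableUnderBaseChange]
    {F G : Sp S} {f : F ⟶ G}
    (h : ∀ ⦃U : Over S⦄ (ξ : (yon S).obj U ⟶ G), ∃ (V : Over S) (g : V ⟶ U)
      (fst : (yon S).obj V ⟶ F), IsPullback fst ((yon S).map g) f ξ ∧ P g.left) :
    RepWith P f := by
  refine MorphismProperty.relative.of_exists fun U ξ ↦ ?_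
  obtain ⟨V, g, fst, sq, hP⟩ := h ξ
  exact ⟨V, fst, g, sq, hP⟩

theorem repWith_exists {P : MorphismProperty Scheme.{u}} {F G : Sp S} {f : F ⟶ G}
    (hf : RepWith P f) {U : Over S} (ξ : (yon S).obj U ⟶ G) :
    ∃ (V : Over S) (g : V ⟶ U) (fst : (yon S).obj V ⟶ F),
      IsPullback fst ((yon S).map g) f ξ ∧ P g.left :=
  ⟨hf.rep.pullback ξ, hf.rep.snd ξ, hf.rep.fst ξ, hf.rep.isPullback ξ, hf.property_snd ξ⟩

theorem repWith_mono {P Q : MorphismProperty Scheme.{u}} {F G : Sp S} {f : F ⟶ G}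
    (hf : RepWith P f) (h : ∀ ⦃X Y : Scheme.{u}⦄ (g : X ⟶ Y), P g → Q g) : RepWith Q f :=
  ⟨hf.1, fun _ _ g fst snd sq ↦ h _ (hf.2 g fst snd sq)⟩

theorem repWith_inf_iff {P Q : MorphismProperty Scheme.{u}} {F G : Sp S} {f : F ⟶ G} :
    RepWith (P ⊓ Q) f ↔ RepWith P f ∧ RepWith Q f :=
  ⟨fun h ↦ ⟨repWith_mono h fun _ _ _ w ↦ w.1, repWith_mono h fun _ _ _ w ↦ w.2⟩,
    fun ⟨h₁, h₂⟩ ↦ ⟨h₁.1, fun _ _ g fst snd sq ↦ ⟨h₁.2 g fst snd sq, h₂.2 g fst snd sq⟩⟩⟩

theorem repWith_comp {P : MorphismProperty Scheme.{u}} [P.IsStableUnderBaseChange]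
    [P.IsStableUnderComposition] {F G H : Sp S} {f : F ⟶ G} {g : G ⟶ H}
    (hf : RepWith P f) (hg : RepWith P g) : RepWith P (f ≫ g) :=
  haveI : ((P.inverseImage (Over.forget S)).relative (yon S)).IsStableUnderComposition :=
    MorphismProperty.relative_isStableUnderComposition _
  MorphismProperty.comp_mem _ f g hf hg

theorem repWith_baseChange {P : MorphismProperty Scheme.{u}} {F G F' G' : Sp S} {f : F ⟶ G}
    {g : G' ⟶ G} {fst : F' ⟶ F} {snd : F' ⟶ G'} (sq : IsPullback fst snd f g)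
    (hf : RepWith P f) : RepWith P snd :=
  MorphismProperty.of_isPullback (P := RepWith P) sq hf

theorem representable_baseChange {F G F' G' : Sp S} {f : F ⟶ G}
    {g : G' ⟶ G} {fst : F' ⟶ F} {snd : F' ⟶ G'} (sq : IsPullback fst snd f g)
    (hf : Representable f) : Representable snd :=
  MorphismProperty.of_isPullback (P := Representable) sq hf

theorem repWith_of_isIso (P : MorphismProperty Scheme.{u}) [P.IsStableUnderBaseChange]
    [P.ContainsIdentities] {F G : Sp S} (f : F ⟶ G) [IsIso f] : RepWith P f :=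
  repWith_of_exists fun U ξ ↦ ⟨U, 𝟙 U, ξ ≫ inv f,
    by simpa using (IsPullback.of_vert_isIso (f := f) (snd := 𝟙 ((yon S).obj U)) (fst := ξ ≫ inv f)
      (g := ξ) ⟨by simp⟩), P.id_mem _⟩

theorem repWith_iso_comp_iff (P : MorphismProperty Scheme.{u}) {F F' G : Sp S} (e : F' ⟶ F)
    [IsIso e] (f : F ⟶ G) : RepWith P (e ≫ f) ↔ RepWith P f :=
  MorphismProperty.cancel_left_of_respectsIso (RepWith P) e f

theorem repWith_comp_iso_iff (P : MorphismProperty Scheme.{u}) {F G G' : Sp S} (f : F ⟶ G)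
    (e : G ⟶ G') [IsIso e] : RepWith P (f ≫ e) ↔ RepWith P f :=
  MorphismProperty.cancel_right_of_respectsIso (RepWith P) f e

/-- The base change of `f` along a map from a scheme, when the source is a scheme, has `P`. -/
theorem repWith_property {P : MorphismProperty Scheme.{u}} {F G : Sp S} {f : F ⟶ G}
    (hf : RepWith P f) {U V : Over S} {ξ : (yon S).obj U ⟶ G} {fst : (yon S).obj V ⟶ F}
    {g : V ⟶ U} (sq : IsPullback fst ((yon S).map g) f ξ) : P g.left :=
  hf.property ξ fst g sq

/-- A representable morphism whose pullbacks are monomorphisms is a monomorphism. -/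
theorem mono_of_repWith {F G : Sp S} {f : F ⟶ G} {P : MorphismProperty Scheme.{u}}
    (hP : P ≤ MorphismProperty.monomorphisms Scheme.{u}) (hf : RepWith P f) : Mono f := by
  refine mono_of_yon f fun T a b (w : a ≫ f = b ≫ f) ↦ ?_
  have hg : Mono (hf.rep.snd (a ≫ f)).left := hP _ (hf.property_snd (a ≫ f))
  have : Mono (hf.rep.snd (a ≫ f)) := (Over.forget S).mono_of_mono_map hg
  have key : hf.rep.lift (g := a ≫ f) a (𝟙 T) (by simp) =
      hf.rep.lift b (𝟙 T) (by simp [w]) := by
    simp [← cancel_mono (hf.rep.snd (a ≫ f))]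
  simpa using congr(($(congrArg (yon S).map key)) ≫ hf.rep.fst (a ≫ f))

/-- Composition of a representable map `h_U ⟶ F` with morphisms of schemes. -/
theorem repWith_yon_map_comp {P : MorphismProperty Scheme.{u}} [P.IsStableUnderBaseChange]
    [P.IsStableUnderComposition] {U V : Over S} {g : V ⟶ U} (hg : P g.left) {F : Sp S}
    {a : (yon S).obj U ⟶ F} (ha : RepWith P a) : RepWith P ((yon S).map g ≫ a) :=
  repWith_comp ((AlgSp.repWith_yon_map_iff P g).2 hg) ha

/-- A pullback of schemes over `S` gives a pullback of sheaves. -/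
theorem isPullback_yon {P X Y Z : Over S} {fst : P ⟶ X} {snd : P ⟶ Y} {f : X ⟶ Z} {g : Y ⟶ Z}
    (sq : IsPullback fst snd f g) :
    IsPullback ((yon S).map fst) ((yon S).map snd) ((yon S).map f) ((yon S).map g) :=
  sq.map (yon S)

/-- A square of representable sheaves is cartesian iff it is so in schemes over `S`. -/
theorem isPullback_of_yon_map {P X Y Z : Over S} {fst : P ⟶ X} {snd : P ⟶ Y} {f : X ⟶ Z}
    {g : Y ⟶ Z}
    (sq : IsPullback ((yon S).map fst) ((yon S).map snd) ((yon S).map f) ((yon S).map g)) :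
    IsPullback fst snd f g :=
  IsPullback.of_map_of_faithful (yon S) sq

/-- A product of representable sheaves is represented by the product. -/
noncomputable def yonProdIso (U V : Over S) :
    (yon S).obj (U ⨯ V) ≅ (yon S).obj U ⨯ (yon S).obj V :=
  asIso (prodComparison (yon S) U V)

@[simp, reassoc]
theorem yonProdIso_hom_fst (U V : Over S) :
    (yonProdIso U V).hom ≫ prod.fst = (yon S).map prod.fst :=
  prodComparison_fst (F := yon S) (A := U) (B := V)

@[simp, reassoc]
theorem yonProdIso_hom_snd (U V : Over S) :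
    (yonProdIso U V).hom ≫ prod.snd = (yon S).map prod.snd :=
  prodComparison_snd (F := yon S) (A := U) (B := V)

end Groth.Agent.Lib.AlgSpace
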