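import Mathlib.CategoryTheory.Limits.FullSubcategory
import Groth.Agent.Lib.AlgSpace.Basic

/-!
# Algebraic spaces library, part 2: diagonals, products, fibre products

* products of representable morphisms, `RepWith P (prod.map f g)`;
* a morphism representable by schemes into a sheaf with representable diagonal has a source with
  representable diagonal; `isAlgSpace_of_representable`;
* products and fibre products of algebraic spaces, `HasPullbacks (AlgSp.Space S)`.
-/

universe u

open CategoryTheory CategoryTheory.Limits AlgebraicGeometry Opposite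

namespace Groth.Agent.Lib.AlgSpace

variable {S : Scheme.{u}}

open AlgSp (Sp yon Representable RepWith IsAlgSpace)

attribute [local simp] prod.lift_fst prod.lift_snd prod.lift_fst_assoc prod.lift_snd_assoc prod.map_fst
  prod.map_snd prod.map_fst_assoc prod.map_snd_assoc

theorem isPullback_prodMap_id {F G : Sp S} (f : F ⟶ G) (K : Sp S) :
    IsPullback (prod.fst : F ⨯ K ⟶ F) (prod.map f (𝟙 K)) f prod.fst :=
  isPullback_of_yon (by simp)
    (fun T c c' h1 h2 ↦ prod.hom_ext h1 (by simpa using congr($(h2) ≫ prod.snd)))
    (fun T a b w ↦ ⟨prod.lift a (b ≫ prod.snd), by simp, prod.hom_ext (by simp [w]) (by simp)⟩)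

theorem isPullback_id_prodMap {F G : Sp S} (f : F ⟶ G) (K : Sp S) :
    IsPullback (prod.snd : K ⨯ F ⟶ F) (prod.map (𝟙 K) f) f prod.snd :=
  isPullback_of_yon (by simp)
    (fun T c c' h1 h2 ↦ prod.hom_ext (by simpa using congr($(h2) ≫ prod.fst)) h1)
    (fun T a b w ↦ ⟨prod.lift (b ≫ prod.fst) a, by simp, prod.hom_ext (by simp) (by simp [w])⟩)

theorem representable_prodMap {F G F' G' : Sp S} {f : F ⟶ G} {f' : F' ⟶ G'}
    (hf : Representable f) (hf' : Representable f') : Representable (prod.map f f') := by
  have : prod.map f f' = prod.map f (𝟙 F') ≫ prod.map (𝟙 G) f' := by simp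
  rw [this]
  exact MorphismProperty.comp_mem Representable _ _
    (representable_baseChange (isPullback_prodMap_id f F') hf)
    (representable_baseChange (isPullback_id_prodMap f' G) hf')

theorem repWith_prodMap {P : MorphismProperty Scheme.{u}} [P.IsStableUnderBaseChange]
    [P.IsStableUnderComposition] {F G F' G' : Sp S} {f : F ⟶ G} {f' : F' ⟶ G'}
    (hf : RepWith P f) (hf' : RepWith P f') : RepWith P (prod.map f f') := by
  have : prod.map f f' = prod.map f (𝟙 F') ≫ prod.map (𝟙 G) f' := by simp
  rw [this]
  exact repWith_comp (repWith_baseChange (isPullback_prodMap_id f F') hf)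
    (repWith_baseChange (isPullback_id_prodMap f' G) hf')

/-- `X ×_H Y ⟶ X ⨯ Y` is the base change of the diagonal of `H`. -/
theorem isPullback_prodLift {P X Y H : Sp S} {f : X ⟶ H} {g : Y ⟶ H} {fst : P ⟶ X} {snd : P ⟶ Y}
    (sq : IsPullback fst snd f g) :
    IsPullback (fst ≫ f) (prod.lift fst snd) (Limits.diag H) (prod.map f g) :=
  isPullback_of_yon (prod.hom_ext (by simp) (by simp [sq.w]))
    (fun T c c' _ h2 ↦ sq.hom_ext (by simpa using congr($(h2) ≫ prod.fst))
      (by simpa using congr($(h2) ≫ prod.snd)))
    (fun T a b w ↦ by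
      have h1 : a = (b ≫ prod.fst) ≫ f := by simpa using congr($(w) ≫ prod.fst)
      have h2 : a = (b ≫ prod.snd) ≫ g := by simpa using congr($(w) ≫ prod.snd)
      refine ⟨sq.lift (b ≫ prod.fst) (b ≫ prod.snd) (h1.symm.trans h2), ?_, ?_⟩
      · simp [h1]
      · exact prod.hom_ext (by simp) (by simp))

/-- If the diagonal of `F` is representable, every map from a scheme to `F` is representable. -/
theorem representable_from_yon {F : Sp S} (h : Representable (Limits.diag F)) {U : Over S}
    (g : (yon S).obj U ⟶ F) : Representable g :=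
  Functor.relativelyRepresentable.of_diag h g

/-- The fibre product of two schemes over a sheaf with representable diagonal is a scheme. -/
theorem exists_isPullback_yon {F : Sp S} (h : Representable (Limits.diag F)) {U V : Over S}
    (a : (yon S).obj U ⟶ F) (b : (yon S).obj V ⟶ F) :
    ∃ (W : Over S) (p : W ⟶ U) (q : W ⟶ V),
      IsPullback ((yon S).map p) ((yon S).map q) a b := by
  have ha := representable_from_yon h a
  exact ⟨ha.pullback b, ha.fst' b, ha.snd b, ha.isPullback' b⟩

/-- Criterion for the diagonal to be representable: fibre products of schemes are schemes. -/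
theorem representable_diag_of_forall {F : Sp S}
    (h : ∀ ⦃U V : Over S⦄ (a : (yon S).obj U ⟶ F) (b : (yon S).obj V ⟶ F),
      ∃ (W : Over S) (p : W ⟶ U) (q : W ⟶ V),
        IsPullback ((yon S).map p) ((yon S).map q) a b) :
    Representable (Limits.diag F) :=
  Functor.relativelyRepresentable.diag_of_map_from_obj fun U a V b ↦ by
    obtain ⟨W, p, q, sq⟩ := h a b
    exact ⟨W, q, (yon S).map p, sq⟩

/-- If `f : F ⟶ G` is representable and `G` has representable diagonal, so does `F`. -/
theorem representable_diag_of_representable {F G : Sp S} {f : F ⟶ G} (hf : Representable f)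
    (hG : Representable (Limits.diag G)) : Representable (Limits.diag F) := by
  refine representable_diag_of_forall fun U V a b ↦ ?_
  obtain ⟨R, p, q, sq⟩ := exists_isPullback_yon hG (a ≫ f) (b ≫ f)
  let c := (yon S).map p ≫ a ≫ f
  let σ₁ : R ⟶ hf.pullback c := hf.lift (g := c) ((yon S).map p ≫ a) (𝟙 R) (by simp [c])
  let σ₂ : R ⟶ hf.pullback c := hf.lift (g := c) ((yon S).map q ≫ b) (𝟙 R) (by simp [c, sq.w])
  let W := Limits.pullback σ₁ σ₂
  let i : W ⟶ R := pullback.fst σ₁ σ₂
  have hi : pullback.snd σ₁ σ₂ = i := by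
    have := congr($(pullback.condition (f := σ₁) (g := σ₂)) ≫ hf.snd c)
    simpa [σ₁, σ₂] using this.symm
  have key : (yon S).map (i ≫ p) ≫ a = (yon S).map (i ≫ q) ≫ b := by
    have h1 := congr((yon S).map $(pullback.condition (f := σ₁) (g := σ₂)) ≫ hf.fst c)
    rw [hi] at h1
    simpa [σ₁, σ₂] using h1
  refine ⟨W, i ≫ p, i ≫ q, isPullback_of_yon key (fun T x x' h1 h2 ↦ ?_) (fun T x y h ↦ ?_)⟩
  · obtain ⟨x, rfl⟩ := (yon S).map_surjective x
    obtain ⟨x', rfl⟩ := (yon S).map_surjective x'
    have e : (yon S).map (x ≫ i) = (yon S).map (x' ≫ i) :=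
      sq.hom_ext (by simpa using h1) (by simpa using h2)
    have e := (yon S).map_injective e
    exact congrArg _ (pullback.hom_ext e (by simpa [hi] using e))
  · obtain ⟨r, hr⟩ := (yon S).map_surjective (sq.lift x y (by simp [reassoc_of% h]))
    have e1 : (yon S).map r ≫ (yon S).map p = x := by rw [hr]; simp
    have e2 : (yon S).map r ≫ (yon S).map q = y := by rw [hr]; simp
    have hσ : r ≫ σ₁ = r ≫ σ₂ := by
      apply hf.hom_ext
      · simp [σ₁, σ₂, reassoc_of% e1, reassoc_of% e2, h]
      · simp [σ₁, σ₂]
    refine ⟨(yon S).map (pullback.lift r r hσ), ?_, ?_⟩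
    · simp [i, ← Functor.map_comp, pullback.lift_fst_assoc, ← e1]
    · simp [i, ← Functor.map_comp, pullback.lift_fst_assoc, ← e2]

/-- A sheaf with a morphism representable by schemes to an algebraic space is an algebraic space. -/
theorem isAlgSpace_of_representable {F G : Sp S} {f : F ⟶ G} (hf : Representable f)
    (hG : IsAlgSpace G) : IsAlgSpace F where
  diag := representable_diag_of_representable hf hG.diag
  atlas := by
    obtain ⟨U, p, he, hs⟩ := hG.atlas
    exact ⟨hf.pullback p, hf.fst p, repWith_baseChange (hf.isPullback p).flip he,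
      repWith_baseChange (hf.isPullback p).flip hs⟩

/-- The product of two algebraic spaces is an algebraic space. -/
theorem isAlgSpace_prod {X Y : Sp S} (hX : IsAlgSpace X) (hY : IsAlgSpace Y) :
    IsAlgSpace (X ⨯ Y) where
  diag := by
    refine Functor.relativelyRepresentable.diag_of_map_from_obj fun T a ↦ ?_
    have : a = Limits.diag ((yon S).obj T) ≫ prod.map (a ≫ prod.fst) (a ≫ prod.snd) :=
      prod.hom_ext (by simp) (by simp)
    rw [this]
    exact MorphismProperty.comp_mem Representable _ _ (IsAlgSpace.yon_obj T).diag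
      (representable_prodMap (representable_from_yon hX.diag _) (representable_from_yon hY.diag _))
  atlas := by
    obtain ⟨U, p, hpe, hps⟩ := hX.atlas
    obtain ⟨V, q, hqe, hqs⟩ := hY.atlas
    exact ⟨U ⨯ V, (yonProdIso U V).hom ≫ prod.map p q,
      (repWith_iso_comp_iff _ _ _).2 (repWith_prodMap hpe hqe),
      (repWith_iso_comp_iff _ _ _).2 (repWith_prodMap hps hqs)⟩

/-- A fibre product of algebraic spaces over a sheaf with representable diagonal is an algebraic
space. -/
theorem isAlgSpace_of_isPullback {P X Y H : Sp S} {f : X ⟶ H} {g : Y ⟶ H} {fst : P ⟶ X}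
    {snd : P ⟶ Y} (sq : IsPullback fst snd f g) (hH : Representable (Limits.diag H))
    (hX : IsAlgSpace X) (hY : IsAlgSpace Y) : IsAlgSpace P :=
  isAlgSpace_of_representable (representable_baseChange (isPullback_prodLift sq) hH)
    (isAlgSpace_prod hX hY)

/-- Algebraic spaces are closed under fibre products. -/
theorem isClosedUnderPullbacks_isAlgSpace :
    ObjectProperty.IsClosedUnderLimitsOfShape (IsAlgSpace (S := S)) WalkingCospan :=
  ⟨fun X ⟨h⟩ ↦
    isAlgSpace_of_isPullback (IsPullback.of_isLimit_cone h.isLimit)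
      (h.prop_diag_obj WalkingCospan.one).diag (h.prop_diag_obj WalkingCospan.left)
      (h.prop_diag_obj WalkingCospan.right)⟩

theorem hasPullbacks_space : HasPullbacks (AlgSp.Space S) :=
  haveI := isClosedUnderPullbacks_isAlgSpace (S := S)
  inferInstance

theorem preservesPullbacks_space_ι :
    PreservesLimitsOfShape WalkingCospan (ObjectProperty.ι (IsAlgSpace (S := S))) :=
  haveI := isClosedUnderPullbacks_isAlgSpace (S := S)
  inferInstance

end Groth.Agent.Lib.AlgSpace
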