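import Mathlib.AlgebraicGeometry.Sites.Pretopology
import Mathlib.AlgebraicGeometry.Morphisms.FlatDescent
import Mathlib.AlgebraicGeometry.Limits
import Mathlib.CategoryTheory.Sites.LocallySurjective
import Mathlib.CategoryTheory.Sites.RegularEpi
import Mathlib.CategoryTheory.Sites.EpiMono
import Groth.Agent.Lib.AlgSpace.Basic

/-!
# Algebraic spaces library, part 3: fppf-local arguments

* `fppfCover`: flat, locally finitely presented, surjective morphisms of schemes;
* locally surjective maps of sheaves = maps along which sections lift after one fppf cover;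
* locally surjective maps are effective epimorphisms;
* descent of `RepWith P` along locally surjective maps.
-/

universe w u

open CategoryTheory CategoryTheory.Limits AlgebraicGeometry Opposite

namespace Groth.Agent.Lib.AlgSpace

variable {S : Scheme.{u}}

open AlgSp (Sp yon Representable RepWith IsAlgSpace)

/-- Surjective, flat, locally finitely presented morphisms: singleton fppf coverings. -/
abbrev fppfCover : MorphismProperty Scheme.{u} :=
  @Surjective ⊓ @Flat ⊓ @LocallyOfFinitePresentation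

theorem fppfCover_mk {X Y : Scheme.{u}} (f : X ⟶ Y) [Surjective f] [Flat f]
    [LocallyOfFinitePresentation f] : fppfCover f := ⟨⟨inferInstance, inferInstance⟩, inferInstance⟩

/-- A jointly surjective family of flat, lfp morphisms covers in the big fppf site. -/
theorem ofArrows_mem_J {T : Over S} {ι : Type w} (Z : ι → Over S) (g : ∀ i, Z i ⟶ T)
    (hfl : ∀ i, Flat (g i).left) (hfp : ∀ i, LocallyOfFinitePresentation (g i).left)
    (hsurj : ∀ x : ↥T.left, ∃ i y, (g i).left y = x) :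
    Sieve.ofArrows Z g ∈ AlgSp.J S T := by
  rw [AlgSp.J_eq, GrothendieckTopology.mem_over_iff, Sieve.overEquiv_ofArrows]
  refine Precoverage.generate_mem_toGrothendieck ?_
  rw [Scheme.fppfPrecoverage, Scheme.ofArrows_mem_precoverage_iff]
  exact ⟨fun x ↦ ⟨_, _, (hsurj x).choose_spec.choose_spec⟩, fun i ↦ ⟨hfl i, hfp i⟩⟩

theorem singleton_mem_J {T' T : Over S} (p : T' ⟶ T) (hp : fppfCover p.left) :
    Sieve.ofArrows (fun _ : PUnit.{1} ↦ T') (fun _ ↦ p) ∈ AlgSp.J S T :=
  ofArrows_mem_J _ _ (fun _ ↦ hp.1.2) (fun _ ↦ hp.2) fun x ↦ ⟨⟨⟩, hp.1.1.surj x⟩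

theorem bot_mem_J (T : Over S) [IsEmpty ↥T.left] : ⊥ ∈ AlgSp.J S T := by
  refine (AlgSp.J S).superset_covering ?_ (ofArrows_mem_J (fun i : PEmpty.{1} ↦ i.elim)
    (fun i ↦ i.elim) (fun i ↦ i.elim) (fun i ↦ i.elim) (fun x ↦ isEmptyElim x))
  rw [Sieve.generate_le_iff]
  rintro _ _ ⟨i⟩
  exact i.elim

/-- Maps from an empty scheme to a sheaf are unique. -/
theorem subsingleton_yon_hom_of_isEmpty (F : Sp S) (T : Over S) [IsEmpty ↥T.left] :
    Subsingleton ((yon S).obj T ⟶ F) := by
  refine ⟨fun a b ↦ (secEquiv T).injective ?_⟩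
  have h := ((isSheaf_iff_isSheaf_of_type _ _).1 F.property) ⊥ (bot_mem_J T)
  exact h.isSeparatedFor.ext fun _ _ hf ↦ hf.elim

/-- Glue maps `h_{Z i} ⟶ F` given on a covering family. -/
theorem exists_desc_of_family {T : Over S} {ι : Type w} (Z : ι → Over S) (g : ∀ i, Z i ⟶ T)
    (hcov : Sieve.ofArrows Z g ∈ AlgSp.J S T) {F : Sp S} (a : ∀ i, (yon S).obj (Z i) ⟶ F)
    (hc : ∀ (i j) (W : Over S) (gi : W ⟶ Z i) (gj : W ⟶ Z j), gi ≫ g i = gj ≫ g j →
      (yon S).map gi ≫ a i = (yon S).map gj ≫ a j) :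
    ∃! b : (yon S).obj T ⟶ F, ∀ i, (yon S).map (g i) ≫ b = a i := by
  have h : Presieve.IsSheafFor F.obj (Presieve.ofArrows Z g) :=
    ((isSheaf_iff_isSheaf_of_type _ _).1 F.property).isSheafFor (Presieve.ofArrows Z g) hcov
  obtain ⟨t, ht, hu⟩ := (Presieve.isSheafFor_arrows_iff _ _).1 h (fun i ↦ secEquiv (Z i) (a i))
    (fun i j W gi gj e ↦ by rw [← secEquiv_map, ← secEquiv_map, hc i j W gi gj e])
  refine ⟨(secEquiv T).symm t, fun i ↦ ?_, fun b hb ↦ ?_⟩
  · rw [yon_map_comp_secEquiv_symm, ht i, Equiv.symm_apply_apply]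
  · rw [Equiv.eq_symm_apply]
    exact hu _ fun i ↦ by rw [← secEquiv_map, hb i]

theorem hom_ext_of_family {T : Over S} {ι : Type w} (Z : ι → Over S) (g : ∀ i, Z i ⟶ T)
    (hcov : Sieve.ofArrows Z g ∈ AlgSp.J S T) {F : Sp S} {a b : (yon S).obj T ⟶ F}
    (h : ∀ i, (yon S).map (g i) ≫ a = (yon S).map (g i) ≫ b) : a = b :=
  (exists_desc_of_family Z g hcov (fun i ↦ (yon S).map (g i) ≫ a)
    (fun i j W gi gj e ↦ by simp only [← Category.assoc, ← Functor.map_comp, e])).unique
    (fun _ ↦ rfl) (fun i ↦ (h i).symm)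

/-- A coproduct of schemes over `S`, as a scheme over `S`. -/
noncomputable abbrev sigmaOver {ι : Type u} (Z : ι → Over S) : Over S :=
  Over.mk (Sigma.desc fun i ↦ (Z i).hom)

/-- The coprojections. -/
noncomputable abbrev sigmaOverι {ι : Type u} (Z : ι → Over S) (i : ι) : Z i ⟶ sigmaOver Z :=
  Over.homMk (Sigma.ι (fun i ↦ (Z i).left) i) (by simp)

theorem sigmaOverι_mem_J {ι : Type u} (Z : ι → Over S) :
    Sieve.ofArrows Z (sigmaOverι Z) ∈ AlgSp.J S (sigmaOver Z) :=
  ofArrows_mem_J _ _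
    (fun i ↦ inferInstanceAs (Flat (Sigma.ι (fun i ↦ (Z i).left) i)))
    (fun i ↦ inferInstanceAs (LocallyOfFinitePresentation (Sigma.ι (fun i ↦ (Z i).left) i)))
    fun x ↦ by
      obtain ⟨i, y, hy⟩ := (sigmaOpenCover (fun i ↦ (Z i).left)).exists_eq x
      exact ⟨i, y, hy⟩

/-- A map out of a coproduct of schemes is given by a family of maps, for sheaves as targets. -/
theorem existsUnique_sigmaOver_desc {ι : Type u} (Z : ι → Over S) {F : Sp S}
    (a : ∀ i, (yon S).obj (Z i) ⟶ F) :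
    ∃! b : (yon S).obj (sigmaOver Z) ⟶ F, ∀ i, (yon S).map (sigmaOverι Z i) ≫ b = a i := by
  refine exists_desc_of_family Z _ (sigmaOverι_mem_J Z) a fun i j W gi gj e ↦ ?_
  have e' : gi.left ≫ Sigma.ι (fun i ↦ (Z i).left) i = gj.left ≫ Sigma.ι (fun i ↦ (Z i).left) j :=
    congr($(e).left)
  by_cases hij : i = j
  · subst hij
    have : gi = gj := Over.OverMorphism.ext ((cancel_mono _).1 e')
    rw [this]
  · have : IsEmpty ↥W.left := isEmpty_of_commSq_sigmaι_of_ne ⟨e'⟩ hij
    exact (subsingleton_yon_hom_of_isEmpty F W).elim _ _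

/-- To check local surjectivity it suffices to lift sections along single fppf covers. -/
theorem isLocallySurjective_of_lift {F G : Sp S} (f : F ⟶ G)
    (h : ∀ (T : Over S) (b : (yon S).obj T ⟶ G), ∃ (T' : Over S) (p : T' ⟶ T)
      (a : (yon S).obj T' ⟶ F), fppfCover p.left ∧ a ≫ f = (yon S).map p ≫ b) :
    Sheaf.IsLocallySurjective f where
  imageSieve_mem {T} s := by
    obtain ⟨T', p, a, hp, w⟩ := h T ((secEquiv T).symm s)
    refine (AlgSp.J S).superset_covering ?_ (singleton_mem_J p hp)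
    rw [Sieve.generate_le_iff]
    rintro _ _ ⟨i⟩
    refine ⟨secEquiv T' a, ?_⟩
    have := congrArg (secEquiv T') w
    rwa [secEquiv_comp, secEquiv_map, Equiv.apply_symm_apply] at this

/-- Along a locally surjective map, sections lift after one fppf cover. -/
theorem exists_lift_of_isLocallySurjective {F G : Sp S} (f : F ⟶ G)
    [Sheaf.IsLocallySurjective f] {T : Over S} (b : (yon S).obj T ⟶ G) :
    ∃ (T' : Over S) (p : T' ⟶ T) (a : (yon S).obj T' ⟶ F),
      fppfCover p.left ∧ a ≫ f = (yon S).map p ≫ b := by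
  have hmem := Presheaf.imageSieve_mem (AlgSp.J S) f.hom (secEquiv T b)
  rw [AlgSp.J_eq, GrothendieckTopology.mem_over_iff] at hmem
  haveI : LocallyOfFinitePresentation.{u} (𝟙 S) := inferInstance
  haveI : MorphismProperty.IsMultiplicative @LocallyOfFinitePresentation.{u} :=
    { id_mem := fun X ↦ (inferInstance : LocallyOfFinitePresentation (𝟙 X)) }
  obtain ⟨𝒰, hle⟩ := Scheme.exists_cover_of_mem_grothendieckTopology
    (P := @Flat ⊓ @LocallyOfFinitePresentation) hmem
  let Z : 𝒰.I₀ → Over S := fun i ↦ Over.mk (𝒰.f i ≫ T.hom)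
  have hi (i : 𝒰.I₀) : ∃ a : (yon S).obj (Z i) ⟶ F,
      a ≫ f = (yon S).map (Over.homMk (𝒰.f i) : Z i ⟶ T) ≫ b := by
    obtain ⟨t, ht⟩ := (Sieve.overEquiv_iff _ _).1 (hle _ _ (Presieve.ofArrows.mk i))
    refine ⟨(secEquiv _).symm t, (secEquiv _).injective ?_⟩
    rw [secEquiv_comp, Equiv.apply_symm_apply, secEquiv_map]
    exact ht
  choose a ha using hi
  obtain ⟨c, hc, -⟩ := existsUnique_sigmaOver_desc Z a
  refine ⟨sigmaOver Z, Over.homMk (Sigma.desc 𝒰.f) (Sigma.hom_ext _ _ fun i ↦ by simp [Z]), c,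
    ⟨⟨⟨fun x ↦ ?_⟩, ?_⟩, ?_⟩, ?_⟩
  · obtain ⟨i, y, hy⟩ := 𝒰.exists_eq x
    refine ⟨Sigma.ι (fun i ↦ 𝒰.X i) i y, ?_⟩
    rw [← Scheme.Hom.comp_apply]
    change (Sigma.ι (fun i ↦ 𝒰.X i) i ≫ Sigma.desc 𝒰.f) y = x
    rw [Sigma.ι_desc]
    exact hy
  · exact IsZariskiLocalAtSource.sigmaDesc (P := @Flat) fun i ↦ (𝒰.map_prop i).1
  · exact IsZariskiLocalAtSource.sigmaDesc (P := @LocallyOfFinitePresentation)
      fun i ↦ (𝒰.map_prop i).2
  · refine hom_ext_of_family Z _ (sigmaOverι_mem_J Z) fun i ↦ ?_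
    rw [reassoc_of% (hc i), ha i, ← Category.assoc, ← Functor.map_comp]
    congr 2
    ext
    simp [Z]

/-- An fppf cover gives a locally surjective map of sheaves. -/
theorem isLocallySurjective_yon_map {T' T : Over S} (p : T' ⟶ T) (hp : fppfCover p.left) :
    Sheaf.IsLocallySurjective ((yon S).map p) := by
  refine isLocallySurjective_of_lift _ fun W b ↦ ?_
  obtain ⟨b, rfl⟩ := (yon S).map_surjective b
  have hs : fppfCover (Limits.pullback.snd p b).left :=
    MorphismProperty.of_isPullback ((IsPullback.of_hasPullback p b).map (Over.forget S)) hp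
  exact ⟨_, pullback.snd p b, (yon S).map (pullback.fst p b), hs,
    by rw [← Functor.map_comp, ← Functor.map_comp, pullback.condition]⟩

theorem epi_yon_map {T' T : Over S} (p : T' ⟶ T) (hp : fppfCover p.left) :
    Epi ((yon S).map p) :=
  haveI := isLocallySurjective_yon_map p hp
  inferInstance

/-- A representable flat, lfp, surjective map is locally surjective. -/
theorem isLocallySurjective_of_repWith {F G : Sp S} {f : F ⟶ G}
    (h₁ : RepWith @Flat f) (h₂ : RepWith @LocallyOfFinitePresentation f)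
    (h₃ : RepWith @Surjective f) : Sheaf.IsLocallySurjective f :=
  isLocallySurjective_of_lift f fun T b ↦
    ⟨_, h₁.rep.snd b, h₁.rep.fst b,
      ⟨⟨repWith_property h₃ (h₁.rep.isPullback b), repWith_property h₁ (h₁.rep.isPullback b)⟩,
        repWith_property h₂ (h₁.rep.isPullback b)⟩, h₁.rep.w b⟩

/-- A representable etale surjective map is locally surjective. -/
theorem isLocallySurjective_of_etale {F G : Sp S} {f : F ⟶ G}
    (he : RepWith @Etale f) (hs : RepWith @Surjective f) : Sheaf.IsLocallySurjective f :=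
  isLocallySurjective_of_repWith (repWith_mono he fun _ _ g (_ : Etale g) ↦ inferInstance)
    (repWith_mono he fun _ _ g (_ : Etale g) ↦ inferInstance) hs

/-- A locally surjective map is the coequalizer of its kernel pair. -/
noncomputable def isColimitCoforkOfIsPullback {F G R : Sp S} (f : F ⟶ G)
    [Sheaf.IsLocallySurjective f] {p₁ p₂ : R ⟶ F} (sq : IsPullback p₁ p₂ f f) :
    IsColimit (Cofork.ofπ f sq.w) :=
  haveI : IsRegularEpi f := IsRegularEpiCategory.regularEpiOfEpi f
  isColimitCoforkOfEffectiveEpi f sq.cone sq.isLimit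

/-- Maps out of the target of a locally surjective map. -/
theorem exists_desc {F G R Z : Sp S} (f : F ⟶ G) [Sheaf.IsLocallySurjective f] {p₁ p₂ : R ⟶ F}
    (sq : IsPullback p₁ p₂ f f) (k : F ⟶ Z) (w : p₁ ≫ k = p₂ ≫ k) : ∃ l, f ≫ l = k :=
  ⟨Cofork.IsColimit.desc (isColimitCoforkOfIsPullback f sq) k w,
    Cofork.IsColimit.π_desc' (isColimitCoforkOfIsPullback f sq) k w⟩

/-- A property local on the target for the fppf precoverage can be checked on one cover. -/
theorem of_fppfCover (P : MorphismProperty Scheme.{u}) [P.IsLocalAtTarget Scheme.fppfPrecoverage]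
    {X Y Y' : Scheme.{u}} {f : X ⟶ Y} {p : Y' ⟶ Y} (hp : fppfCover p)
    (h : P (pullback.snd f p)) : P f := by
  have := hp.1.1
  have := hp.1.2
  have := hp.2
  refine MorphismProperty.IsLocalAtTarget.of_forall_pullbackSnd (K := Scheme.fppfPrecoverage)
    (p.singleton_mem_fppfPrecoverage) ?_
  rintro U g _ ⟨⟩
  exact h

/-- `RepWith P` descends along locally surjective maps. -/
theorem repWith_of_isLocallySurjective {F G H Q : Sp S} {a : F ⟶ G} (ha : Representable a)
    (b : H ⟶ G) [Sheaf.IsLocallySurjective b] {b' : Q ⟶ F} {a' : Q ⟶ H}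
    (sq : IsPullback b' a' a b) (P : MorphismProperty Scheme.{u}) [P.IsStableUnderBaseChange]
    [P.IsLocalAtTarget Scheme.fppfPrecoverage] (h : RepWith P a') : RepWith P a := by
  refine repWith_of_exists fun T ξ ↦
    ⟨ha.pullback ξ, ha.snd ξ, ha.fst ξ, ha.isPullback ξ, ?_⟩
  obtain ⟨T', p, η, hp, w⟩ := exists_lift_of_isLocallySurjective b ξ
  let g := ha.snd ξ
  refine of_fppfCover P hp ?_
  have sqp := IsPullback.of_hasPullback g p
  have sq1 := (sqp.map (yon S)).paste_horiz (ha.isPullback ξ)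
  rw [← w] at sq1
  have sq2 := IsPullback.of_right' sq1 sq
  have hP : P (pullback.snd g p).left := repWith_property h sq2
  exact (P.arrow_mk_iso_iff (Arrow.isoMk ((sqp.map (Over.forget S)).isoPullback) (Iso.refl _)
    (((sqp.map (Over.forget S)).isoPullback_hom_snd).trans (Category.comp_id _).symm))).1 hP

/-- `RepWith P` for a representable map can be tested on one chart of the target. -/
theorem repWith_iff_of_chart {X Y : Sp S} {f : Y ⟶ X} (hf : Representable f) {U V : Over S}
    (q : (yon S).obj U ⟶ X) [Sheaf.IsLocallySurjective q] {fst : (yon S).obj V ⟶ Y} {g : V ⟶ U}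
    (sq : IsPullback fst ((yon S).map g) f q) (P : MorphismProperty Scheme.{u})
    [P.IsStableUnderBaseChange] [P.IsLocalAtTarget Scheme.fppfPrecoverage] :
    RepWith P f ↔ P g.left :=
  ⟨fun h ↦ repWith_property h sq, fun h ↦
    repWith_of_isLocallySurjective hf q sq P ((AlgSp.repWith_yon_map_iff P g).2 h)⟩

/-- Zariski locality and descent along single fppf covers give fppf locality on the target. -/
theorem isLocalAtTarget_fppf (P : MorphismProperty Scheme.{u}) [P.IsStableUnderBaseChange]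
    [IsZariskiLocalAtTarget P] [P.DescendsAlong fppfCover] :
    P.IsLocalAtTarget Scheme.fppfPrecoverage := by
  haveI : Precoverage.Small.{u} Scheme.fppfPrecoverage.{u} :=
    inferInstanceAs (Precoverage.Small.{u} (Scheme.precoverage _))
  refine MorphismProperty.IsLocalAtTarget.mk_of_small.{u}
    (fun _ hf _ ↦ P.pullback_snd _ _ hf) fun {X Y f} 𝒰 h ↦ ?_
  let p : ∐ 𝒰.X ⟶ Y := Sigma.desc 𝒰.f
  have hp : fppfCover p := by
    refine ⟨⟨⟨fun x ↦ ?_⟩, IsZariskiLocalAtSource.sigmaDesc (P := @Flat) fun i ↦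
      (Scheme.Cover.map_prop (P := @Flat ⊓ @LocallyOfFinitePresentation) 𝒰 i).1⟩,
      IsZariskiLocalAtSource.sigmaDesc (P := @LocallyOfFinitePresentation) fun i ↦
      (Scheme.Cover.map_prop (P := @Flat ⊓ @LocallyOfFinitePresentation) 𝒰 i).2⟩
    let 𝒱 : Scheme.Cover (Scheme.precoverage (@Flat ⊓ @LocallyOfFinitePresentation)) Y := 𝒰
    obtain ⟨i, y, hy⟩ := 𝒱.exists_eq x
    refine ⟨Sigma.ι 𝒰.X i y, ?_⟩
    rw [← Scheme.Hom.comp_apply]
    change (Sigma.ι 𝒰.X i ≫ Sigma.desc 𝒰.f) y = x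
    rw [Sigma.ι_desc]
    exact hy
  refine MorphismProperty.of_pullback_snd_of_descendsAlong (Q := fppfCover) hp
    (IsZariskiLocalAtTarget.of_openCover (sigmaOpenCover 𝒰.X) fun i ↦ ?_)
  have sq := (IsPullback.of_hasPullback (pullback.snd f p) ((sigmaOpenCover 𝒰.X).f i)).paste_horiz
    (IsPullback.of_hasPullback f p)
  have e : (sigmaOpenCover 𝒰.X).f i ≫ p = 𝒰.f i := Sigma.ι_desc _ _
  rw [e] at sq
  exact (P.arrow_mk_iso_iff (Arrow.isoMk sq.isoPullback (Iso.refl _)
    (sq.isoPullback_hom_snd.trans (Category.comp_id _).symm))).2 (h i)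

end Groth.Agent.Lib.AlgSpace
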