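import Mathlib.AlgebraicGeometry.Morphisms.UniversallyOpen
import Groth.Prelude.Def_AlgSp2
import Groth.Agent.Lib.AlgSpace.Diag
import Groth.Agent.Lib.AlgSpace.Local

/-!
# Algebraic spaces library, part 5: points

* `ofPt_yon_map_comp`, `exists_ofPt_eq`, `ofPt_eq_ofPt_iff`, `ofPt_eq_ofPt_iff_of_isPullback`;
* `exists_of_isPullback` for `Points`;
* surjectivity / openness of `Points.map` for representable morphisms; charts.
-/

universe u

open CategoryTheory CategoryTheory.Limits AlgebraicGeometry Opposite Topology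

namespace Groth.Agent.Lib.AlgSpace

variable {S : Scheme.{u}}

open AlgSp (Sp yon Representable RepWith IsAlgSpace FieldPt)
open AlgSp

variable {F G : Sp S}

/-- Evaluating a map from a scheme on a morphism of schemes. -/
theorem app_eq_secEquiv {T T' : Over S} (g : (yon S).obj T ⟶ F) (φ : T' ⟶ T) :
    g.hom.app (op T') ⟨φ⟩ = secEquiv T' ((yon S).map φ ≫ g) :=
  ((AlgSp.J S).map_uliftYonedaEquiv g φ).symm.trans (secEquiv_map φ g).symm

/-- The morphism `Spec K ⟶ F` of a field valued point. -/
noncomputable abbrev fieldPtHom (p : FieldPt F) : (yon S).obj p.pt ⟶ F :=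
  (secEquiv p.pt).symm p.val

theorem ofPt_yon_map_comp {T T' : Over S} (φ : T ⟶ T') (g : (yon S).obj T' ⟶ F) (t : ↥T.left) :
    Points.ofPt ((yon S).map φ ≫ g) t = Points.ofPt g (φ.left t) := by
  rw [← Points.map_ofPt, ← Points.ofScheme_toScheme T' (Points.ofPt ((yon S).map φ) t),
    Points.toScheme_ofPt, Points.map_ofPt, Category.id_comp]

theorem ofPt_fieldPtHom (p : FieldPt F) (t : ↥p.pt.left) :
    Points.ofPt (fieldPtHom p) t = Points.mk p := by
  let x : Points ((yon S).obj p.pt) := Points.mk ⟨p.K, p.str, ⟨𝟙 _⟩⟩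
  have h1 : Points.map (fieldPtHom p) x = Points.mk p := by
    change Points.mk (⟨p.K, p.str, _⟩ : FieldPt F) = Points.mk (⟨p.K, p.str, p.val⟩ : FieldPt F)
    congr 2
    refine (app_eq_secEquiv (fieldPtHom p) (𝟙 p.pt)).trans ?_
    rw [CategoryTheory.Functor.map_id, Category.id_comp, Equiv.apply_symm_apply]
  rw [← h1, ← Points.ofScheme_toScheme p.pt x, ← Points.ofPt_eq_map_ofScheme]
  exact congrArg _ (Subsingleton.elim (α := ↥(Spec (CommRingCat.of p.K))) _ _)

/-- Every point comes from the spectrum of a field. -/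
theorem exists_ofPt_eq (x : Points F) :
    ∃ (T : Over S) (g : (yon S).obj T ⟶ F) (t : ↥T.left), Points.ofPt g t = x := by
  induction x using Points.ind with
  | h p => exact ⟨p.pt, fieldPtHom p, IsLocalRing.closedPoint p.K, ofPt_fieldPtHom p _⟩

/-- Two points of schemes have the same image iff they come from a point of a scheme mapping
compatibly to both. -/
theorem ofPt_eq_ofPt_iff {U V : Over S} (a : (yon S).obj U ⟶ F) (b : (yon S).obj V ⟶ F)
    (u : ↥U.left) (v : ↥V.left) :
    Points.ofPt a u = Points.ofPt b v ↔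
      ∃ (W : Over S) (p : W ⟶ U) (q : W ⟶ V) (w : ↥W.left),
        p.left w = u ∧ q.left w = v ∧ (yon S).map p ≫ a = (yon S).map q ≫ b := by
  constructor
  · intro h
    obtain ⟨Ω, _, w, a', b', h⟩ := Points.mk_eq_mk_iff.1 h
    refine ⟨Over.mk w, a' ≫ Over.homMk (U.left.fromSpecResidueField u) rfl,
      b' ≫ Over.homMk (V.left.fromSpecResidueField v) rfl, IsLocalRing.closedPoint Ω, ?_, ?_, ?_⟩
    · exact (Scheme.Hom.comp_apply _ _ _).trans (Scheme.fromSpecResidueField_apply u _)
    · exact (Scheme.Hom.comp_apply _ _ _).trans (Scheme.fromSpecResidueField_apply v _)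
    · apply (secEquiv _).injective
      rw [Functor.map_comp, Functor.map_comp, Category.assoc, Category.assoc]
      exact (secEquiv_map a' _).trans ((congrArg _ (app_eq_secEquiv a _).symm).trans (h.trans
        ((congrArg _ (app_eq_secEquiv b _)).trans (secEquiv_map b' _).symm)))
  · rintro ⟨W, p, q, w, rfl, rfl, h⟩
    rw [← ofPt_yon_map_comp, ← ofPt_yon_map_comp, h]

theorem ofPt_eq_ofPt_iff_of_isPullback {U V R : Over S} {a : (yon S).obj U ⟶ F}
    {b : (yon S).obj V ⟶ F} {p : R ⟶ U} {q : R ⟶ V}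
    (sq : IsPullback ((yon S).map p) ((yon S).map q) a b) (u : ↥U.left) (v : ↥V.left) :
    Points.ofPt a u = Points.ofPt b v ↔ ∃ r : ↥R.left, p.left r = u ∧ q.left r = v := by
  rw [ofPt_eq_ofPt_iff]
  constructor
  · rintro ⟨W, p', q', w, rfl, rfl, h⟩
    obtain ⟨r, hr⟩ := (yon S).map_surjective (sq.lift _ _ h)
    refine ⟨r.left w, ?_, ?_⟩
    · rw [← Scheme.Hom.comp_apply, ← Over.comp_left,
        show r ≫ p = p' from (yon S).map_injective (by simp [hr])]
    · rw [← Scheme.Hom.comp_apply, ← Over.comp_left,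
        show r ≫ q = q' from (yon S).map_injective (by simp [hr])]
  · rintro ⟨r, hp, hq⟩
    exact ⟨R, p, q, r, hp, hq, sq.w⟩

/-- Points of a fibre product map onto pairs of points with the same image. -/
theorem exists_of_isPullback {X Y P : Sp S} {f : X ⟶ G} {g : Y ⟶ G} {fst : P ⟶ X} {snd : P ⟶ Y}
    (sq : IsPullback fst snd f g) (x : Points X) (y : Points Y)
    (h : Points.map f x = Points.map g y) :
    ∃ z, Points.map fst z = x ∧ Points.map snd z = y := by
  obtain ⟨U, a, u, rfl⟩ := exists_ofPt_eq x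
  obtain ⟨V, b, v, rfl⟩ := exists_ofPt_eq y
  rw [Points.map_ofPt, Points.map_ofPt, ofPt_eq_ofPt_iff] at h
  obtain ⟨W, p, q, w, rfl, rfl, e⟩ := h
  refine ⟨Points.ofPt (sq.lift ((yon S).map p ≫ a) ((yon S).map q ≫ b) (by simpa using e)) w, ?_, ?_⟩
  · rw [Points.map_ofPt, sq.lift_fst, ofPt_yon_map_comp]
  · rw [Points.map_ofPt, sq.lift_snd, ofPt_yon_map_comp]

/-- The preimage of the image of points under `f` on a chart of the target. -/
theorem preimage_image_map {f : F ⟶ G} {T V : Over S} {g : (yon S).obj T ⟶ G}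
    {fst : (yon S).obj V ⟶ F} {snd : V ⟶ T} (sq : IsPullback fst ((yon S).map snd) f g)
    (W : Set (Points F)) :
    Points.ofPt g ⁻¹' (Points.map f '' W) = snd.left '' (Points.ofPt fst ⁻¹' W) := by
  ext t
  constructor
  · rintro ⟨x, hx, e⟩
    obtain ⟨U, a, u, rfl⟩ := exists_ofPt_eq x
    rw [Points.map_ofPt, ofPt_eq_ofPt_iff] at e
    obtain ⟨Z, p, q, z, rfl, rfl, e⟩ := e
    obtain ⟨r, hr⟩ := (yon S).map_surjective (sq.lift ((yon S).map p ≫ a) ((yon S).map q)
      (by simpa using e))
    refine ⟨r.left z, ?_, ?_⟩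
    · change Points.ofPt fst (r.left z) ∈ W
      rw [← ofPt_yon_map_comp, hr, sq.lift_fst, ofPt_yon_map_comp]
      exact hx
    · rw [← Scheme.Hom.comp_apply, ← Over.comp_left,
        show r ≫ snd = q from (yon S).map_injective (by simp [hr])]
  · rintro ⟨v, hv, rfl⟩
    exact ⟨_, hv, by rw [Points.map_ofPt, sq.w, ofPt_yon_map_comp]⟩

/-- Representable surjective morphisms are surjective on points. -/
theorem surjective_map {f : F ⟶ G} (hs : RepWith @Surjective f) :
    Function.Surjective (Points.map f) := by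
  intro y
  obtain ⟨T, g, t, rfl⟩ := exists_ofPt_eq y
  obtain ⟨V, v, fst, sq, hv⟩ := repWith_exists hs g
  obtain ⟨x, hx⟩ := hv.surj t
  exact ⟨Points.ofPt fst x, by rw [Points.map_ofPt, sq.w, ofPt_yon_map_comp, hx]⟩

/-- A representable surjective map from a scheme hits every point. -/
theorem surjective_ofPt {U : Over S} {a : (yon S).obj U ⟶ F} (hs : RepWith @Surjective a) :
    Function.Surjective (Points.ofPt a) := by
  intro y
  obtain ⟨x, rfl⟩ := surjective_map hs y
  exact ⟨Points.toScheme U x, by rw [Points.ofPt_eq_map_ofScheme, Points.ofScheme_toScheme]⟩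

/-- Representable universally open morphisms are open on points. -/
theorem isOpenMap_map {f : F ⟶ G} (h : RepWith @UniversallyOpen f) : IsOpenMap (Points.map f) := by
  refine fun W hW ↦ Points.isOpen_iff.2 fun T g ↦ ?_
  obtain ⟨V, v, fst, sq, hv⟩ := repWith_exists h g
  rw [preimage_image_map sq]
  exact v.left.isOpenMap _ (Points.isOpen_iff.1 hW V fst)

/-- Etale charts are open. -/
theorem isOpenMap_ofPt {U : Over S} {a : (yon S).obj U ⟶ F} (he : RepWith @Etale a) :
    IsOpenMap (Points.ofPt a) := by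
  have h : Points.ofPt a = Points.map a ∘ Points.schemeHomeo U :=
    funext (Points.ofPt_eq_map_ofScheme a)
  rw [h]
  exact (isOpenMap_map (repWith_mono he fun _ _ g (_ : Etale g) ↦
    (inferInstance : UniversallyOpen g))).comp (Points.schemeHomeo U).isOpenMap

/-- An etale surjective chart is an open quotient map on points. -/
theorem isOpenQuotientMap_ofPt {U : Over S} {a : (yon S).obj U ⟶ F} (he : RepWith @Etale a)
    (hs : RepWith @Surjective a) : IsOpenQuotientMap (Points.ofPt a) :=
  ⟨surjective_ofPt hs, Points.continuous_ofPt a, isOpenMap_ofPt he⟩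

/-- Chart criterion for openness. -/
theorem isOpen_iff_chart {U : Over S} {a : (yon S).obj U ⟶ F} (he : RepWith @Etale a)
    (hs : RepWith @Surjective a) {W : Set (Points F)} :
    IsOpen W ↔ IsOpen (Points.ofPt a ⁻¹' W) :=
  (isOpenQuotientMap_ofPt he hs).isQuotientMap.isOpen_preimage.symm

/-- Monomorphisms are injective on points. -/
theorem injective_map_of_mono (f : F ⟶ G) [Mono f] : Function.Injective (Points.map f) := by
  intro x y h
  obtain ⟨U, a, u, rfl⟩ := exists_ofPt_eq x
  obtain ⟨V, b, v, rfl⟩ := exists_ofPt_eq y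
  rw [Points.map_ofPt, Points.map_ofPt, ofPt_eq_ofPt_iff] at h
  obtain ⟨W, p, q, w, rfl, rfl, e⟩ := h
  rw [← ofPt_yon_map_comp, ← ofPt_yon_map_comp,
    (cancel_mono f).1 (show ((yon S).map p ≫ a) ≫ f = ((yon S).map q ≫ b) ≫ f by simpa using e)]

/-- A representable open immersion into a sheaf is an open embedding on points. -/
theorem isOpenEmbedding_map {f : F ⟶ G} (h : RepWith @IsOpenImmersion f) :
    IsOpenEmbedding (Points.map f) :=
  haveI : Mono f := mono_of_repWith (P := @IsOpenImmersion)
    (fun _ _ g (_ : IsOpenImmersion g) ↦ (inferInstance : Mono g)) h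
  .of_continuous_injective_isOpenMap (Points.continuous_map f) (injective_map_of_mono f)
    (isOpenMap_map (repWith_mono h fun _ _ g (_ : IsOpenImmersion g) ↦
      (inferInstance : UniversallyOpen g)))

end Groth.Agent.Lib.AlgSpace
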