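import Mathlib.AlgebraicGeometry.Morphisms.LocalFlatDescent
import Mathlib.AlgebraicGeometry.Morphisms.FiniteType
import Groth.Agent.Lib.AlgSpace.Diag
import Groth.Agent.Lib.AlgSpace.Local

/-!
# Algebraic spaces library, part 4: properties of the diagonal
-/

universe u

open CategoryTheory CategoryTheory.Limits AlgebraicGeometry Opposite

namespace Groth.Agent.Lib.AlgSpace

variable {S : Scheme.{u}}

open AlgSp (Sp yon Representable RepWith IsAlgSpace)

attribute [local simp] prod.lift_fst prod.lift_snd prod.lift_fst_assoc prod.lift_snd_assoc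
  prod.map_fst prod.map_snd prod.map_fst_assoc prod.map_snd_assoc

/-- The map `h_{U × V} ⟶ F ⨯ F` given by two maps from schemes. -/
noncomputable abbrev yonProdMap {F : Sp S} {U V : Over S} (a : (yon S).obj U ⟶ F)
    (b : (yon S).obj V ⟶ F) : (yon S).obj (U ⨯ V) ⟶ F ⨯ F :=
  (yonProdIso U V).hom ≫ prod.map a b

/-- The fibre product of two schemes over `F` is the base change of the diagonal of `F`. -/
theorem isPullback_diag_yonProd {F : Sp S} {U V W : Over S} {a : (yon S).obj U ⟶ F}
    {b : (yon S).obj V ⟶ F} {p : W ⟶ U} {q : W ⟶ V}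
    (sq : IsPullback ((yon S).map p) ((yon S).map q) a b) :
    IsPullback ((yon S).map p ≫ a) ((yon S).map (prod.lift p q)) (Limits.diag F) (yonProdMap a b) := by
  refine (isPullback_prodLift sq).of_iso (Iso.refl _) (Iso.refl _) (yonProdIso U V).symm (Iso.refl _)
    (by simp) ?_ (by simp) (by simp)
  simp only [Iso.refl_hom, Category.id_comp, Iso.symm_hom, Iso.comp_inv_eq]
  refine prod.hom_ext ?_ ?_
  · simp [← Functor.map_comp]
  · simp [← Functor.map_comp]

/-- The diagonal of a sheaf with representable diagonal is a monomorphism with monic pullbacks. -/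
theorem repWith_diag_monomorphisms {F : Sp S} (h : Representable (Limits.diag F)) :
    RepWith (MorphismProperty.monomorphisms Scheme.{u}) (Limits.diag F) := by
  refine ⟨h, fun U V ξ fst snd sq ↦ ?_⟩
  have : Mono ((yon S).map snd) := MorphismProperty.of_isPullback
    (P := MorphismProperty.monomorphisms (Sp S)) sq (inferInstanceAs (Mono (Limits.diag F)))
  have : Mono snd := (yon S).mono_of_mono_map this
  exact (Over.forget S).map_mono snd

/-- A property of the diagonal can be tested on the fibre square of an atlas. -/
theorem repWith_diag_of_atlas {F : Sp S} (hF : Representable (Limits.diag F)) {U R : Over S}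
    {p : (yon S).obj U ⟶ F} (he : RepWith @Etale p) (hs : RepWith @Surjective p) {a b : R ⟶ U}
    (sq : IsPullback ((yon S).map a) ((yon S).map b) p p) (P : MorphismProperty Scheme.{u})
    [P.IsStableUnderBaseChange] [P.IsLocalAtTarget Scheme.fppfPrecoverage]
    (hP : P (prod.lift a b).left) : RepWith P (Limits.diag F) :=
  haveI : Sheaf.IsLocallySurjective (yonProdMap p p) :=
    isLocallySurjective_of_etale ((repWith_iso_comp_iff _ _ _).2 (repWith_prodMap he he))
      ((repWith_iso_comp_iff _ _ _).2 (repWith_prodMap hs hs))
  repWith_of_isLocallySurjective hF (yonProdMap p p) (isPullback_diag_yonProd sq) P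
    ((AlgSp.repWith_yon_map_iff P _).2 hP)

/-- The diagonal of an algebraic space is locally of finite type. -/
theorem repWith_diag_locallyOfFiniteType {F : Sp S} (hF : IsAlgSpace F) :
    RepWith @LocallyOfFiniteType (Limits.diag F) := by
  haveI : MorphismProperty.IsLocalAtTarget @LocallyOfFiniteType.{u} Scheme.fppfPrecoverage :=
    isLocalAtTarget_fppf _
  obtain ⟨U, p, he, hs⟩ := hF.atlas
  obtain ⟨R, a, b, sq⟩ := exists_isPullback_yon hF.diag p p
  refine repWith_diag_of_atlas hF.diag he hs sq _ ?_
  have : Etale b.left := repWith_property he sq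
  have : LocallyOfFiniteType ((prod.lift a b).left ≫ (Limits.prod.snd : U ⨯ U ⟶ U).left) := by
    rw [← Over.comp_left, prod.lift_snd]
    infer_instance
  exact locallyOfFiniteType_of_comp (prod.lift a b).left (Limits.prod.snd : U ⨯ U ⟶ U).left

end Groth.Agent.Lib.AlgSpace
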