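import Mathlib.RingTheory.Unramified.LocalStructure
import Mathlib.AlgebraicGeometry.Morphisms.QuasiFinite
import Mathlib.AlgebraicGeometry.Morphisms.LocalFlatDescent
import Groth.Agent.Lib.AlgSpace.Local

/-!
# Algebraic spaces library, part 7: fppf locality of some properties
-/

universe u

open CategoryTheory CategoryTheory.Limits AlgebraicGeometry Opposite

namespace Groth.Agent.Lib.AlgSpace

/-- Formally unramified morphisms locally of finite type are locally quasi-finite. -/
theorem locallyQuasiFinite_of_formallyUnramified {X Y : Scheme.{u}} (f : X ⟶ Y)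
    [FormallyUnramified f] [LocallyOfFiniteType f] : LocallyQuasiFinite f := by
  refine ⟨fun {U} hU {V} hV e ↦ ?_⟩
  have h1 := HasRingHomProperty.appLE @FormallyUnramified f inferInstance ⟨U, hU⟩ ⟨V, hV⟩ e
  have h2 := HasRingHomProperty.appLE @LocallyOfFiniteType f inferInstance ⟨U, hU⟩ ⟨V, hV⟩ e
  algebraize [(f.appLE U V e).hom]
  have : Algebra.FormallyUnramified Γ(Y, U) Γ(X, V) := h1
  have : Algebra.FiniteType Γ(Y, U) Γ(X, V) := h2
  exact (inferInstance : Algebra.QuasiFinite Γ(Y, U) Γ(X, V))

/-- Etale morphisms are locally quasi-finite. -/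
theorem locallyQuasiFinite_of_etale {X Y : Scheme.{u}} (f : X ⟶ Y) [Etale f] :
    LocallyQuasiFinite f :=
  locallyQuasiFinite_of_formallyUnramified f

/-- Quasi-compactness descends along surjective quasi-compact flat morphisms. -/
instance quasiCompact_descendsAlong_fpqc :
    MorphismProperty.DescendsAlong @QuasiCompact.{u} (@Surjective ⊓ @Flat ⊓ @QuasiCompact) := by
  refine MorphismProperty.DescendsAlong.mk' fun {X Y Z} f g _ hf hfst ↦ ⟨fun U hU hUc ↦ ?_⟩
  have := hf.1.1
  have := hf.2
  have e : g ⁻¹' U = pullback.snd f g '' (pullback.fst f g ⁻¹' (f ⁻¹' U)) := by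
    ext y
    constructor
    · intro hy
      obtain ⟨x, hx⟩ := f.surjective (g y)
      obtain ⟨z, hz1, hz2⟩ := Scheme.Pullback.exists_preimage_pullback x y hx
      exact ⟨z, by simpa [hz1, hx] using hy, hz2⟩
    · rintro ⟨z, hz, rfl⟩
      have : f (pullback.fst f g z) = g (pullback.snd f g z) := by
        rw [← Scheme.Hom.comp_apply, ← Scheme.Hom.comp_apply, pullback.condition]
      simpa [this] using hz
  rw [e]
  exact ((hfst.isCompact_preimage _ (hU.preimage f.continuous)
    (QuasiCompact.isCompact_preimage _ hU hUc))).image (pullback.snd f g).continuous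

theorem isLocalAtTarget_fppf_quasiCompact :
    MorphismProperty.IsLocalAtTarget @QuasiCompact.{u} Scheme.fppfPrecoverage :=
  isLocalAtTarget_fppf _

theorem isLocalAtTarget_fppf_etale :
    MorphismProperty.IsLocalAtTarget @Etale.{u} Scheme.fppfPrecoverage :=
  isLocalAtTarget_fppf _

theorem isLocalAtTarget_fppf_isOpenImmersion :
    MorphismProperty.IsLocalAtTarget @IsOpenImmersion.{u} Scheme.fppfPrecoverage :=
  isLocalAtTarget_fppf _

theorem isLocalAtTarget_fppf_surjective :
    MorphismProperty.IsLocalAtTarget @Surjective.{u} Scheme.fppfPrecoverage :=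
  isLocalAtTarget_fppf _

theorem isLocalAtTarget_fppf_isomorphisms :
    MorphismProperty.IsLocalAtTarget (MorphismProperty.isomorphisms Scheme.{u})
      Scheme.fppfPrecoverage :=
  isLocalAtTarget_fppf _

end Groth.Agent.Lib.AlgSpace
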