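import Groth.Agent.Lib.AlgSpace.Points

/-!
# Algebraic spaces library, part 6: charts by coproducts of opens, open subspaces
-/

universe u

open CategoryTheory CategoryTheory.Limits AlgebraicGeometry Opposite Topology

namespace Groth.Agent.Lib.AlgSpace

variable {S : Scheme.{u}}

open AlgSp (Sp yon Representable RepWith IsAlgSpace)
open AlgSp

variable {F G : Sp S}

theorem repWith_etale_yon_map {U V : Over S} {g : U ⟶ V} (h : Etale g.left) :
    RepWith @Etale ((yon S).map g) :=
  (AlgSp.repWith_yon_map_iff _ g).2 h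

theorem repWith_surjective_yon_map {U V : Over S} {g : U ⟶ V} (h : Surjective g.left) :
    RepWith @Surjective ((yon S).map g) :=
  (AlgSp.repWith_yon_map_iff _ g).2 h

/-- The coproduct of a family of opens of a scheme over `S`. -/
noncomputable abbrev opensSigma {U : Over S} {ι : Type u} (O : ι → U.left.Opens) : Over S :=
  Over.mk (Sigma.desc fun i ↦ (O i).ι ≫ U.hom)

/-- The canonical map from the coproduct of opens. -/
noncomputable abbrev opensSigmaMap {U : Over S} {ι : Type u} (O : ι → U.left.Opens) :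
    opensSigma O ⟶ U :=
  Over.homMk (Sigma.desc fun i ↦ (O i).ι) (Sigma.hom_ext _ _ fun i ↦ by simp)

theorem etale_opensSigmaMap {U : Over S} {ι : Type u} (O : ι → U.left.Opens) :
    Etale (opensSigmaMap O).left :=
  IsZariskiLocalAtSource.sigmaDesc (P := @Etale) fun _ ↦ inferInstance

theorem opensSigmaMap_apply {U : Over S} {ι : Type u} (O : ι → U.left.Opens) (i : ι)
    (x : ↥(O i).toScheme) :
    (opensSigmaMap O).left (Sigma.ι (fun i ↦ (O i).toScheme) i x) = (O i).ι x := by
  rw [← Scheme.Hom.comp_apply]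
  change (Sigma.ι (fun i ↦ (O i).toScheme) i ≫ Sigma.desc fun i ↦ (O i).ι) x = _
  rw [Sigma.ι_desc]

theorem surjective_opensSigmaMap {U : Over S} {ι : Type u} (O : ι → U.left.Opens)
    (h : ∀ x, ∃ i, x ∈ O i) : Surjective (opensSigmaMap O).left := by
  refine ⟨fun x ↦ ?_⟩
  obtain ⟨i, hi⟩ := h x
  exact ⟨_, opensSigmaMap_apply O i ⟨x, hi⟩⟩

/-- A map from a scheme factors through an open immersion as soon as it does so on points. -/
theorem exists_lift_yon_of_range_subset {j : F ⟶ G} (hj : RepWith @IsOpenImmersion j) {T : Over S}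
    (a : (yon S).obj T ⟶ G) (h : Set.range (Points.ofPt a) ⊆ Set.range (Points.map j)) :
    ∃ b, b ≫ j = a := by
  obtain ⟨V, v, fst, sq, hv⟩ := repWith_exists hj a
  have hs : Surjective v.left := ⟨fun t ↦ by
    have := preimage_image_map sq Set.univ
    rw [Set.image_univ, Set.preimage_univ, Set.image_univ] at this
    have ht : t ∈ Points.ofPt a ⁻¹' Set.range (Points.map j) := h ⟨t, rfl⟩
    rw [this] at ht
    exact ht⟩
  have : IsIso v.left := by
    rw [isIso_iff_isOpenImmersion_and_surjective]
    exact ⟨hv, hs⟩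
  have : IsIso ((Over.forget S).map v) := this
  have : IsIso v := isIso_of_reflects_iso v (Over.forget S)
  refine ⟨(yon S).map (inv v) ≫ fst, ?_⟩
  rw [Category.assoc, sq.w, ← Category.assoc, ← Functor.map_comp, IsIso.inv_hom_id,
    CategoryTheory.Functor.map_id, Category.id_comp]

/-- A map of sheaves factors through an open immersion iff it does so on points. -/
theorem exists_lift_iff_range_subset {j : F ⟶ G} (hj : RepWith @IsOpenImmersion j) {H : Sp S}
    (f : H ⟶ G) :
    (∃ g, g ≫ j = f) ↔ Set.range (Points.map f) ⊆ Set.range (Points.map j) := by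
  constructor
  · rintro ⟨g, rfl⟩ _ ⟨x, rfl⟩
    exact ⟨Points.map g x, (Points.map_comp g j x).symm⟩
  · intro h
    have : Mono j := mono_of_repWith (P := @IsOpenImmersion)
      (fun _ _ g (_ : IsOpenImmersion g) ↦ (inferInstance : Mono g)) hj
    have hl : ∀ (T : Over S) (a : (yon S).obj T ⟶ H), ∃ b, b ≫ j = a ≫ f := fun T a ↦
      exists_lift_yon_of_range_subset hj _ (by
        rintro _ ⟨t, rfl⟩
        exact h ⟨_, Points.map_ofPt a f t⟩)
    choose φ hφ using hl
    refine ⟨homMkYon φ fun g a ↦ ?_, hom_ext fun T a ↦ ?_⟩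
    · rw [← cancel_mono j, Category.assoc, hφ, hφ, Category.assoc]
    · rw [← Category.assoc, comp_homMkYon, hφ]

end Groth.Agent.Lib.AlgSpace
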