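import Groth.Agent.Lib.AlgSpace.Descend
import Groth.Agent.Lib.AlgSpace.DiagProp
import Groth.Agent.Lib.AlgSpace.Props
import Groth.Agent.Lib.FFDesc.OpenImm
import Groth.Agent.Lib.FFDesc.Lqf

/-!
# Algebraic spaces library, part 9: representability is fppf local for effective properties

* `Effective P`: descent data with property `P` along fppf covers are effective;
* quasi-affine morphisms, open immersions, separated locally quasi-finite morphisms locally of
  finite type, monomorphisms locally of finite type are effective;
* `representable_of_isLocallySurjective`, `repWith_of_effective`: a morphism of sheaves which is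
  representable with an effective property after a locally surjective base change is
  representable.
-/

universe u

open CategoryTheory CategoryTheory.Limits AlgebraicGeometry Opposite

namespace Groth.Agent.Lib.AlgSpace

open AlgSp (Sp yon Representable RepWith)
open Groth.Agent.Lib.FFDesc (IsDescended)

/-- Descent data with property `P` relative to fppf covers are effective. -/
def Effective (P : MorphismProperty Scheme.{u}) : Prop :=
  ∀ ⦃X' S' : Scheme.{u}⦄ (p : X' ⟶ S'), fppfCover p → ∀ D : Desc.SchDD p, P D.obj.hom →
    ∃ (U : Over S') (q : D.obj.left ⟶ U.left), IsDescended D U q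

theorem Effective.mono {P Q : MorphismProperty Scheme.{u}} (hQ : Effective Q)
    (h : ∀ ⦃X Y : Scheme.{u}⦄ (f : X ⟶ Y), P f → Q f) : Effective P :=
  fun _ _ p hp D hD ↦ hQ p hp D (h _ hD)

theorem effective_quasiAffine : Effective (fun _ _ f ↦ Mor2.IsQuasiAffine f) :=
  fun _ _ p hp D hD ↦
    haveI := hp.1.1
    haveI := hp.1.2
    haveI := hp.2
    let ⟨U, q, H, _⟩ := FFDesc.exists_isDescended D (FFDesc.fpqcCover_of_lfp p) hD
    ⟨U, q, H⟩

theorem effective_isOpenImmersion : Effective @IsOpenImmersion.{u} :=
  fun _ _ p hp D hD ↦
    haveI := hp.1.1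
    haveI := hp.1.2
    haveI := hp.2
    haveI : IsOpenImmersion D.obj.hom := hD
    let ⟨U, q, H, _⟩ := FFDesc.exists_isDescended_of_isOpenImmersion D
    ⟨U, q, H⟩

/-- Separated, locally quasi-finite, locally of finite type. -/
abbrev sepLqf : MorphismProperty Scheme.{u} :=
  @IsSeparated ⊓ @LocallyQuasiFinite ⊓ @LocallyOfFiniteType

theorem effective_sepLqf : Effective sepLqf.{u} :=
  fun _ _ p hp D hD ↦
    haveI := hp.1.1
    haveI := hp.1.2
    haveI := hp.2
    haveI : IsSeparated D.obj.hom := hD.1.1
    haveI : LocallyQuasiFinite D.obj.hom := hD.1.2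
    haveI : LocallyOfFiniteType D.obj.hom := hD.2
    FFDesc.exists_isDescended_of_lqf D

theorem sepLqf_of_mono {X Y : Scheme.{u}} (f : X ⟶ Y) [Mono f] [LocallyOfFiniteType f] :
    sepLqf f :=
  ⟨⟨inferInstance, LocallyQuasiFinite.of_injective f.injective⟩, inferInstance⟩

theorem effective_monoLft :
    Effective (MorphismProperty.monomorphisms Scheme.{u} ⊓ @LocallyOfFiniteType) :=
  effective_sepLqf.mono fun X Y f hf ↦
    haveI : Mono f := hf.1
    haveI : LocallyOfFiniteType f := hf.2
    sepLqf_of_mono f

theorem effective_of_le_sepLqf {P : MorphismProperty Scheme.{u}} (h : P ≤ sepLqf) : Effective P :=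
  effective_sepLqf.mono fun X Y f hf ↦ h f hf

variable {S : Scheme.{u}}

/-- A morphism which becomes representable with an effective property after a locally surjective
base change is representable. -/
theorem representable_of_isLocallySurjective {F G H Q : Sp S} {a : F ⟶ G} (b : H ⟶ G)
    [Sheaf.IsLocallySurjective b] {b' : Q ⟶ F} {a' : Q ⟶ H} (sq : IsPullback b' a' a b)
    {P : MorphismProperty Scheme.{u}} (hP : Effective P) (h : RepWith P a') : Representable a := by
  intro T ξ
  obtain ⟨T', p, η, hp, w⟩ := exists_lift_of_isLocallySurjective b ξ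
  have sq1 := (h.rep.isPullback η).paste_horiz sq
  rw [w] at sq1
  have sq2 : IsPullback (Limits.pullback.lift (h.rep.fst η ≫ b')
      ((yon S).map (h.rep.snd η) ≫ (yon S).map p) (by
        simpa only [Category.assoc] using sq1.w))
      ((yon S).map (h.rep.snd η)) (Limits.pullback.snd a ξ) ((yon S).map p) :=
    IsPullback.of_right (by rwa [Limits.pullback.lift_fst]) (by rw [Limits.pullback.lift_snd])
      (IsPullback.of_hasPullback a ξ)
  obtain ⟨W, w', e, k, he, -, -⟩ := exists_iso_yon_of_descent hp sq2 fun D hD ↦
    hP _ hp D (by rw [hD]; exact h.property_snd η)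
  refine ⟨W, w', e.hom ≫ Limits.pullback.fst a ξ, ?_⟩
  exact (IsPullback.of_hasPullback a ξ).of_iso e.symm (Iso.refl _) (Iso.refl _) (Iso.refl _)
    (by simp) (by simp [← he]) (by simp) (by simp)

/-- `RepWith P` descends along locally surjective maps for effective `P` local on the target. -/
theorem repWith_of_effective {F G H Q : Sp S} {a : F ⟶ G} (b : H ⟶ G)
    [Sheaf.IsLocallySurjective b] {b' : Q ⟶ F} {a' : Q ⟶ H} (sq : IsPullback b' a' a b)
    {P : MorphismProperty Scheme.{u}} [P.IsStableUnderBaseChange]
    [P.IsLocalAtTarget Scheme.fppfPrecoverage] (hP : Effective P) (h : RepWith P a') :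
    RepWith P a :=
  repWith_of_isLocallySurjective (representable_of_isLocallySurjective b sq hP h) b sq P h

/-- Open immersions descend along locally surjective maps. -/
theorem repWith_isOpenImmersion_of_isLocallySurjective {F G H Q : Sp S} {a : F ⟶ G} (b : H ⟶ G)
    [Sheaf.IsLocallySurjective b] {b' : Q ⟶ F} {a' : Q ⟶ H} (sq : IsPullback b' a' a b)
    (h : RepWith @IsOpenImmersion a') : RepWith @IsOpenImmersion a :=
  haveI : MorphismProperty.IsLocalAtTarget @IsOpenImmersion.{u} Scheme.fppfPrecoverage :=
    isLocalAtTarget_fppf_isOpenImmersion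
  repWith_of_effective b sq effective_isOpenImmersion h

/-- Monomorphisms of sheaves locally of finite type after a locally surjective base change are
representable. -/
theorem representable_of_mono_of_lft {F G H Q : Sp S} {a : F ⟶ G} [Mono a] (b : H ⟶ G)
    [Sheaf.IsLocallySurjective b] {b' : Q ⟶ F} {a' : Q ⟶ H} (sq : IsPullback b' a' a b)
    (h : RepWith @LocallyOfFiniteType a') : Representable a := by
  refine representable_of_isLocallySurjective b sq effective_monoLft
    (repWith_inf_iff.2 ⟨⟨h.1, fun U V ξ fst snd sq' ↦ ?_⟩, h⟩)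
  have : Mono ((yon S).map snd) :=
    MorphismProperty.of_isPullback (P := MorphismProperty.monomorphisms (Sp S))
      (sq'.paste_horiz sq) (inferInstanceAs (Mono a))
  have : Mono snd := (yon S).mono_of_mono_map this
  exact (Over.forget S).map_mono snd

end Groth.Agent.Lib.AlgSpace
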