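import Mathlib.CategoryTheory.Limits.Preserves.Shapes.Equalizers
import Mathlib.AlgebraicGeometry.Morphisms.UniversallyOpen
import Groth.Agent.Lib.AlgSpace.DescendRep

/-!
# Algebraic spaces library, part 10: quotient sheaves of equivalence relations

* `isPullback_quot`: for an equivalence relation `s, t : R ⟶ U` on schemes, `h_R` is the kernel pair
  of `π : h_U ⟶ U/R`, which is locally surjective;
* `isPresentation_quot`, `isAlgSpace_quot`: quotients of etale equivalence relations are algebraic
  spaces;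
* `repWith_isOpenImmersion_of_restrict`: restriction of a relation along a flat, lfp map gives an
  open subspace.
-/

universe u

open CategoryTheory CategoryTheory.Limits AlgebraicGeometry Opposite

namespace Groth.Agent.Lib.AlgSpace

variable {S : Scheme.{u}}

open AlgSp (Sp yon Representable RepWith IsAlgSpace IsEqvRel IsEtaleEqvRel IsPresentation)

/-- Representable presheaves, lifted one universe. -/
noncomputable abbrev preRep (V : Over S) : (Over S)ᵒᵖ ⥤ Type (u + 1) :=
  yoneda.obj V ⋙ uliftFunctor.{u + 1, u}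

/-- The map of presheaves induced by a morphism. -/
noncomputable abbrev preMap {V W : Over S} (g : V ⟶ W) : preRep V ⟶ preRep W :=
  Functor.whiskerRight (yoneda.map g) uliftFunctor.{u + 1, u}

/-- The map `h_U ⟶ U/R`. -/
noncomputable abbrev quotMap {R U : Over S} (s t : R ⟶ U) :
    (yon S).obj U ⟶ QuotSh.quot Scheme.fppfPrecoverage s t :=
  (QuotSh.repIsoUliftYoneda Scheme.fppfPrecoverage U).inv ≫
    QuotSh.quotπ Scheme.fppfPrecoverage s t

@[reassoc]
theorem repMap_repIso_hom {V W : Over S} (g : V ⟶ W) :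
    QuotSh.repMap Scheme.fppfPrecoverage g ≫
        (QuotSh.repIsoUliftYoneda Scheme.fppfPrecoverage W).hom =
      (QuotSh.repIsoUliftYoneda Scheme.fppfPrecoverage V).hom ≫ (yon S).map g :=
  (sheafificationNatIso (AlgSp.J S) (Type (u + 1))).inv.naturality ((yon S).map g)

@[reassoc]
theorem repIso_inv_repMap {V W : Over S} (g : V ⟶ W) :
    (QuotSh.repIsoUliftYoneda Scheme.fppfPrecoverage V).inv ≫
        QuotSh.repMap Scheme.fppfPrecoverage g =
      (yon S).map g ≫ (QuotSh.repIsoUliftYoneda Scheme.fppfPrecoverage W).inv := by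
  rw [Iso.inv_comp_eq, ← repMap_repIso_hom_assoc, Iso.hom_inv_id, Category.comp_id]

theorem quotMap_condition {R U : Over S} (s t : R ⟶ U) :
    (yon S).map s ≫ quotMap s t = (yon S).map t ≫ quotMap s t := by
  rw [← repIso_inv_repMap_assoc, ← repIso_inv_repMap_assoc, QuotSh.quot_condition]

theorem epi_quotMap {R U : Over S} (s t : R ⟶ U) : Epi (quotMap s t) :=
  haveI : Epi (QuotSh.quotπ Scheme.fppfPrecoverage s t) := coequalizer.π_epi
  epi_comp _ _

theorem isLocallySurjective_quotMap {R U : Over S} (s t : R ⟶ U) :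
    Sheaf.IsLocallySurjective (quotMap s t) :=
  (Sheaf.isLocallySurjective_iff_epi' (Type (u + 1)) (quotMap s t)).2 (epi_quotMap s t)

section Pre

variable {R U : Over S} {s t : R ⟶ U} (h : IsEqvRel s t)

/-- Points of `U` up to the relation. -/
def ptSetoid (T : Over S) : Setoid (ULift.{u + 1} (T ⟶ U)) where
  r a b := ∃ r : T ⟶ R, r ≫ t = a.down ∧ r ≫ s = b.down
  iseqv :=
    ⟨fun a ↦ (h.equivalence T).refl a.down, fun w ↦ (h.equivalence T).symm w,
      fun w w' ↦ (h.equivalence T).trans w w'⟩

/-- The naive quotient presheaf. -/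
noncomputable def preQuot : (Over S)ᵒᵖ ⥤ Type (u + 1) where
  obj T := Quotient (ptSetoid h T.unop)
  map {T T'} f := ↾(Quotient.map (fun a ↦ ⟨f.unop ≫ a.down⟩) fun a b ⟨r, h1, h2⟩ ↦
    ⟨f.unop ≫ r, by rw [Category.assoc, h1], by rw [Category.assoc, h2]⟩)
  map_id T := by
    ext x
    induction x using Quotient.inductionOn
    exact congrArg (Quotient.mk _) (ULift.ext _ _ (Category.id_comp _))
  map_comp f g := by
    ext x
    induction x using Quotient.inductionOn
    exact congrArg (Quotient.mk _) (ULift.ext _ _ (Category.assoc _ _ _))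

/-- The projection to the naive quotient. -/
noncomputable def toPreQuot : preRep U ⟶ preQuot h where
  app T := ↾fun a ↦ Quotient.mk (ptSetoid h T.unop) a
  naturality T T' f := rfl

include h

theorem isPullback_pre :
    IsPullback (preMap t) (preMap s) (coequalizer.π (preMap s) (preMap t))
      (coequalizer.π (preMap s) (preMap t)) := by
  have w : preMap s ≫ toPreQuot h = preMap t ≫ toPreQuot h := by
    ext T r
    exact Quotient.sound (s := ptSetoid h T.unop)
      ((h.equivalence T.unop).symm ⟨r.down, rfl, rfl⟩)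
  refine IsPullback.of_forall_isPullback_app fun T ↦ ?_
  rw [Types.isPullback_iff]
  refine ⟨congr($((coequalizer.condition (preMap s) (preMap t)).symm).app T), fun x x' hx ↦ ?_,
    fun a b hab ↦ ?_⟩
  · exact ULift.ext _ _ (h.injective T.unop x.down x'.down (congrArg ULift.down hx.1)
      (congrArg ULift.down hx.2))
  · have := congrArg ((coequalizer.desc (toPreQuot h) w).app T) hab
    rw [← ConcreteCategory.comp_apply, ← ConcreteCategory.comp_apply, ← NatTrans.comp_app,
      coequalizer.π_desc] at this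
    obtain ⟨r, h1, h2⟩ := Quotient.exact (s := ptSetoid h T.unop) this
    exact ⟨⟨r⟩, ULift.ext _ _ h1, ULift.ext _ _ h2⟩

theorem isPullback_rep :
    IsPullback (QuotSh.repMap Scheme.fppfPrecoverage t) (QuotSh.repMap Scheme.fppfPrecoverage s)
      (QuotSh.quotπ Scheme.fppfPrecoverage s t) (QuotSh.quotπ Scheme.fppfPrecoverage s t) := by
  let G : ((Over S)ᵒᵖ ⥤ Type (u + 1)) ⥤ Sp S := presheafToSheaf (AlgSp.J S) (Type (u + 1))
  let e := coequalizerComparison (preMap s) (preMap t) G
  have he : QuotSh.quotπ Scheme.fppfPrecoverage s t ≫ e =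
      G.map (coequalizer.π (preMap s) (preMap t)) :=
    ι_comp_coequalizerComparison (preMap s) (preMap t) G
  refine ((isPullback_pre h).map G).of_iso (Iso.refl _) (Iso.refl _) (Iso.refl _) (asIso e).symm
    (by simp [G]) (by simp [G]) ?_ ?_
  · rw [← he]
    simp [G]
    exact (congrArg (QuotSh.quotπ Scheme.fppfPrecoverage s t ≫ ·) (IsIso.hom_inv_id e)).trans
      (Category.comp_id _)
  · rw [← he]
    simp [G]
    exact (congrArg (QuotSh.quotπ Scheme.fppfPrecoverage s t ≫ ·) (IsIso.hom_inv_id e)).trans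
      (Category.comp_id _)

theorem isPullback_quot :
    IsPullback ((yon S).map t) ((yon S).map s) (quotMap s t) (quotMap s t) :=
  (isPullback_rep h).of_iso (QuotSh.repIsoUliftYoneda _ R) (QuotSh.repIsoUliftYoneda _ U)
    (QuotSh.repIsoUliftYoneda _ U) (Iso.refl _) (repMap_repIso_hom t) (repMap_repIso_hom s)
    (by simp [quotMap]) (by simp [quotMap])

end Pre

/-! ### Etale equivalence relations -/

theorem surjective_left_of_eqvRel {R U : Over S} {s t : R ⟶ U} (h : IsEqvRel s t) :
    Surjective t.left ∧ Surjective s.left := by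
  obtain ⟨e, he, he'⟩ := (h.equivalence U).refl (𝟙 U)
  exact ⟨⟨fun x ↦ ⟨e.left x, by rw [← Scheme.Hom.comp_apply, ← Over.comp_left, he]; rfl⟩⟩,
    ⟨fun x ↦ ⟨e.left x, by rw [← Scheme.Hom.comp_apply, ← Over.comp_left, he']; rfl⟩⟩⟩

/-- A pair of maps to a sheaf lift, fppf locally, along a locally surjective map. -/
theorem isLocallySurjective_yonProdMap {F : Sp S} {U V : Over S} (a : (yon S).obj U ⟶ F)
    (b : (yon S).obj V ⟶ F) [Sheaf.IsLocallySurjective a] [Sheaf.IsLocallySurjective b] :
    Sheaf.IsLocallySurjective (yonProdMap a b) := by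
  refine isLocallySurjective_of_lift _ fun T c ↦ ?_
  obtain ⟨T', p, x, hp, hx⟩ := exists_lift_of_isLocallySurjective a (c ≫ prod.fst)
  obtain ⟨T'', p', y, hp', hy⟩ :=
    exists_lift_of_isLocallySurjective b ((yon S).map p ≫ c ≫ prod.snd)
  haveI : (fppfCover.{u}).IsStableUnderComposition := inferInstance
  refine ⟨T'', p' ≫ p, prod.lift ((yon S).map p' ≫ x) y ≫ (yonProdIso U V).inv,
    MorphismProperty.comp_mem fppfCover _ _ hp' hp, ?_⟩
  refine prod.hom_ext ?_ ?_
  · simp [hx, prod.lift_fst]
  · simp [hy, prod.lift_snd]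

/-- The quotient of an etale equivalence relation has representable diagonal. -/
theorem representable_diag_quot {R U : Over S} {s t : R ⟶ U} (h : IsEtaleEqvRel s t) :
    Representable (Limits.diag (QuotSh.quot Scheme.fppfPrecoverage s t)) := by
  haveI := isLocallySurjective_quotMap s t
  haveI := isLocallySurjective_yonProdMap (quotMap s t) (quotMap s t)
  refine representable_of_mono_of_lft (yonProdMap (quotMap s t) (quotMap s t))
    (isPullback_diag_yonProd (isPullback_quot h.toIsEqvRel))
    ((AlgSp.repWith_yon_map_iff _ _).2 ?_)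
  have := h.etale_left
  have : LocallyOfFiniteType ((prod.lift t s).left ≫ (Limits.prod.snd : U ⨯ U ⟶ U).left) := by
    rw [← Over.comp_left, prod.lift_snd]
    infer_instance
  exact locallyOfFiniteType_of_comp (prod.lift t s).left (Limits.prod.snd : U ⨯ U ⟶ U).left

/-- The quotient of an etale equivalence relation is presented by it. -/
theorem isPresentation_quot {R U : Over S} {s t : R ⟶ U} (h : IsEtaleEqvRel s t) :
    IsPresentation s t (quotMap s t) := by
  haveI := isLocallySurjective_quotMap s t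
  have hπ := representable_from_yon (representable_diag_quot h) (quotMap s t)
  have sq := isPullback_quot h.toIsEqvRel
  haveI : MorphismProperty.IsLocalAtTarget @Etale.{u} Scheme.fppfPrecoverage :=
    isLocalAtTarget_fppf_etale
  haveI : MorphismProperty.IsLocalAtTarget @Surjective.{u} Scheme.fppfPrecoverage :=
    isLocalAtTarget_fppf_surjective
  exact ⟨h,
    repWith_of_isLocallySurjective hπ _ sq @Etale ((AlgSp.repWith_yon_map_iff _ _).2 h.etale_left),
    repWith_of_isLocallySurjective hπ _ sq @Surjective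
      ((AlgSp.repWith_yon_map_iff _ _).2 (surjective_left_of_eqvRel h.toIsEqvRel).2), sq⟩

theorem isAlgSpace_quot {R U : Over S} {s t : R ⟶ U} (h : IsEtaleEqvRel s t) :
    IsAlgSpace (QuotSh.quot Scheme.fppfPrecoverage s t) :=
  ⟨representable_diag_quot h, U, quotMap s t, (isPresentation_quot h).etale,
    (isPresentation_quot h).surjective⟩

/-! ### Restriction of a relation along a flat map -/

/-- A map between quotients given by restriction along a flat, locally finitely presented map is an
open immersion. -/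
theorem repWith_isOpenImmersion_of_restrict {F F' : Sp S} {R U R' U' : Over S} {s t : R ⟶ U}
    {g : U' ⟶ U} {s' t' : R' ⟶ U'} {r : R' ⟶ R} {π : (yon S).obj U ⟶ F}
    {π' : (yon S).obj U' ⟶ F'} {φ : F' ⟶ F}
    [Sheaf.IsLocallySurjective π] [Sheaf.IsLocallySurjective π']
    (hπ : IsPullback ((yon S).map t) ((yon S).map s) π π)
    (hπ' : (yon S).map s' ≫ π' = (yon S).map t' ≫ π')
    (hsq : IsPullback (prod.lift t' s') r (prod.map g g) (prod.lift t s))
    [Flat g.left] [LocallyOfFinitePresentation g.left]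
    [Flat t.left] [LocallyOfFinitePresentation t.left]
    (hφ : π' ≫ φ = (yon S).map g ≫ π) : RepWith @IsOpenImmersion φ := by
  -- `φ` is a monomorphism
  have hmono : Mono φ := mono_of_yon φ fun T a b (e : a ≫ φ = b ≫ φ) ↦ by
    obtain ⟨T₁, p₁, x, hp₁, hx⟩ := exists_lift_of_isLocallySurjective π' a
    obtain ⟨T₂, p₂, y, hp₂, hy⟩ := exists_lift_of_isLocallySurjective π' ((yon S).map p₁ ≫ b)
    obtain ⟨x, rfl⟩ := (yon S).map_surjective x
    obtain ⟨y, rfl⟩ := (yon S).map_surjective y
    have hpp : fppfCover (p₂ ≫ p₁).left := MorphismProperty.comp_mem fppfCover _ _ hp₂ hp₁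
    haveI := epi_yon_map (p₂ ≫ p₁) hpp
    rw [← cancel_epi ((yon S).map (p₂ ≫ p₁))]
    simp only [Functor.map_comp, Category.assoc]
    rw [← hx, ← hy]
    have key : (yon S).map (p₂ ≫ x ≫ g) ≫ π = (yon S).map (y ≫ g) ≫ π := by
      simp only [Functor.map_comp, Category.assoc, ← hφ]
      rw [reassoc_of% hx, reassoc_of% hy, e]
    obtain ⟨c, hc⟩ := (yon S).map_surjective (hπ.lift _ _ key)
    have h1 : c ≫ t = p₂ ≫ x ≫ g := (yon S).map_injective (by rw [Functor.map_comp, hc]; simp)
    have h2 : c ≫ s = y ≫ g := (yon S).map_injective (by rw [Functor.map_comp, hc]; simp)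
    have w : prod.lift (p₂ ≫ x) y ≫ prod.map g g = c ≫ prod.lift t s := by
      rw [prod.lift_map, prod.comp_lift, h1, h2, Category.assoc]
    have h3 := hsq.lift_fst _ c w
    have h3t : hsq.lift _ c w ≫ t' = p₂ ≫ x := by
      simpa [prod.lift_fst] using congr($h3 ≫ prod.fst)
    have h3s : hsq.lift _ c w ≫ s' = y := by
      simpa [prod.lift_snd] using congr($h3 ≫ prod.snd)
    obtain ⟨l, hlt, hls⟩ : ∃ l, l ≫ t' = p₂ ≫ x ∧ l ≫ s' = y := ⟨_, h3t, h3s⟩
    rw [← Category.assoc, ← Functor.map_comp, ← hlt, ← hls, Functor.map_comp, Functor.map_comp,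
      Category.assoc, Category.assoc, hπ']
  -- the saturation of the image of `g`
  let P := Limits.pullback g s
  let i : P ⟶ R := pullback.snd g s
  have hi : IsPullback (pullback.fst g s).left i.left g.left s.left :=
    (IsPullback.of_hasPullback g s).map (Over.forget S)
  have : Flat i.left := MorphismProperty.of_isPullback hi ‹Flat g.left›
  have : LocallyOfFinitePresentation i.left :=
    MorphismProperty.of_isPullback hi ‹LocallyOfFinitePresentation g.left›
  have : Flat (i ≫ t).left := inferInstanceAs (Flat (i.left ≫ t.left))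
  have : LocallyOfFinitePresentation (i ≫ t).left :=
    inferInstanceAs (LocallyOfFinitePresentation (i.left ≫ t.left))
  let W : U.left.Opens := ⟨_, (i ≫ t).left.isOpenMap.isOpen_range⟩
  let WO : Over S := Over.mk (W.ι ≫ U.hom)
  let w : WO ⟶ U := Over.homMk W.ι
  have : Mono w := (Over.forget S).mono_of_mono_map (inferInstanceAs (Mono W.ι))
  let cl : P.left ⟶ W := IsOpenImmersion.lift W.ι (i ≫ t).left (by
    rw [Scheme.Opens.range_ι]; exact le_of_eq rfl)
  have hcl : cl ≫ W.ι = (i ≫ t).left := IsOpenImmersion.lift_fac _ _ _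
  let c : P ⟶ WO := Over.homMk cl (by
    change cl ≫ W.ι ≫ U.hom = P.hom
    rw [reassoc_of% hcl]
    exact Over.w (i ≫ t))
  have hcw : c ≫ w = i ≫ t := Over.OverMorphism.ext hcl
  have hc : fppfCover c.left := by
    refine ⟨⟨⟨fun z ↦ ?_⟩, MorphismProperty.of_postcomp (W := @Flat) (W' := @IsOpenImmersion)
        cl W.ι inferInstance (hcl ▸ inferInstance)⟩,
      MorphismProperty.of_postcomp (W := @LocallyOfFinitePresentation) (W' := @IsOpenImmersion)
        cl W.ι inferInstance (hcl ▸ inferInstance)⟩
    obtain ⟨x, hx⟩ := z.2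
    refine ⟨x, W.ι.injective ?_⟩
    change W.ι (cl x) = W.ι z
    rw [← Scheme.Hom.comp_apply, hcl, hx]
    rfl
  haveI := isLocallySurjective_yon_map c hc
  have hc' : ((yon S).map (pullback.fst g s) ≫ π') ≫ φ = (yon S).map c ≫ (yon S).map w ≫ π := by
    rw [Category.assoc, hφ, ← Functor.map_comp_assoc, ← Functor.map_comp_assoc, hcw,
      pullback.condition, Functor.map_comp, Functor.map_comp, Category.assoc, Category.assoc,
      hπ.w]
  obtain ⟨fst, hfst⟩ := exists_desc ((yon S).map c)
    (IsPullback.of_hasPullback ((yon S).map c) ((yon S).map c))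
    ((yon S).map (pullback.fst g s) ≫ π') (by
      rw [← cancel_mono φ]
      simp only [Category.assoc] at hc' ⊢
      rw [hc', pullback.condition_assoc])
  have hfac : fst ≫ φ = (yon S).map w ≫ π := by
    rw [← cancel_epi ((yon S).map c), reassoc_of% hfst, ← Category.assoc, hc']
  refine repWith_isOpenImmersion_of_isLocallySurjective π
    (sq := isPullback_of_yon hfac (fun T x x' _ e ↦ (cancel_mono ((yon S).map w)).1 e)
      fun T a b e ↦ ?_) ((AlgSp.repWith_yon_map_iff _ w).2 (inferInstanceAs (IsOpenImmersion W.ι)))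
  obtain ⟨b, rfl⟩ := (yon S).map_surjective b
  obtain ⟨T', p, x, hp, hx⟩ := exists_lift_of_isLocallySurjective π' a
  obtain ⟨x, rfl⟩ := (yon S).map_surjective x
  have key : (yon S).map (p ≫ b) ≫ π = (yon S).map (x ≫ g) ≫ π := by
    simp only [Functor.map_comp, Category.assoc, ← hφ, ← e]
    rw [reassoc_of% hx]
  obtain ⟨d, hd⟩ := (yon S).map_surjective (hπ.lift _ _ key)
  have h1 : d ≫ t = p ≫ b := (yon S).map_injective (by rw [Functor.map_comp, hd]; simp)
  have h2 : d ≫ s = x ≫ g := (yon S).map_injective (by rw [Functor.map_comp, hd]; simp)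
  have hb : Set.range b.left ⊆ Set.range W.ι := by
    rw [Scheme.Opens.range_ι]
    rintro _ ⟨y, rfl⟩
    obtain ⟨y, rfl⟩ := hp.1.1.surj y
    refine ⟨(pullback.lift x d h2.symm).left y, ?_⟩
    rw [← Scheme.Hom.comp_apply, ← Over.comp_left, pullback.lift_snd_assoc, h1]
    rfl
  have hl : IsOpenImmersion.lift W.ι b.left hb ≫ W.ι = b.left := IsOpenImmersion.lift_fac _ _ _
  let l : T ⟶ WO := Over.homMk (IsOpenImmersion.lift W.ι b.left hb) (by
    change IsOpenImmersion.lift W.ι b.left hb ≫ W.ι ≫ U.hom = T.hom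
    rw [reassoc_of% hl, Over.w])
  have hlw : l ≫ w = b := Over.OverMorphism.ext hl
  refine ⟨(yon S).map l, ?_, by rw [← Functor.map_comp, hlw]⟩
  rw [← cancel_mono φ, Category.assoc, hfac, e, ← Functor.map_comp_assoc, hlw]

end Groth.Agent.Lib.AlgSpace
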