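import Groth.Agent.Lib.AlgSpace.OpenSub
import Groth.Agent.Lib.AlgSpace.Quot

/-!
# Algebraic spaces library, part 11: open subspaces exist

* `exists_open_subspace`: every open set of points is the image of an open subspace;
* `repWith_surjective_of_points`: representable morphisms surjective on points are surjective.
-/

universe u

open CategoryTheory CategoryTheory.Limits AlgebraicGeometry Opposite Topology

namespace Groth.Agent.Lib.AlgSpace

variable {S : Scheme.{u}}

open AlgSp (Sp yon Representable RepWith IsAlgSpace)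
open AlgSp

variable {F G : Sp S}

/-- Locally surjective maps are surjective on points. -/
theorem surjective_map_of_isLocallySurjective (f : F ⟶ G) [Sheaf.IsLocallySurjective f] :
    Function.Surjective (Points.map f) := by
  intro y
  obtain ⟨T, g, t, rfl⟩ := exists_ofPt_eq y
  obtain ⟨T', p, a, hp, w⟩ := exists_lift_of_isLocallySurjective f g
  obtain ⟨t', rfl⟩ := hp.1.1.surj t
  exact ⟨Points.ofPt a t', by rw [Points.map_ofPt, w, ofPt_yon_map_comp]⟩

/-- A representable morphism which is surjective on points is surjective. -/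
theorem repWith_surjective_of_points {f : F ⟶ G} (hf : Representable f)
    (h : Function.Surjective (Points.map f)) : RepWith @Surjective f := by
  refine ⟨hf, fun U V ξ fst snd sq ↦ ⟨fun x ↦ ?_⟩⟩
  have e := preimage_image_map sq Set.univ
  rw [Set.image_univ, Set.preimage_univ, Set.image_univ, h.range_eq, Set.preimage_univ] at e
  exact (Set.ext_iff.1 e x).1 (Set.mem_univ x)

/-- Open immersions into algebraic spaces exist for all open sets of points. -/
theorem exists_open_subspace (hG : IsAlgSpace G) {W : Set (Points G)} (hW : IsOpen W) :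
    ∃ (F : Sp S) (j : F ⟶ G), IsAlgSpace F ∧ RepWith @IsOpenImmersion j ∧
      Set.range (Points.map j) = W := by
  obtain ⟨U, π, he, hs⟩ := hG.atlas
  haveI := isLocallySurjective_of_etale he hs
  obtain ⟨R, t, s, sq⟩ := exists_isPullback_yon hG.diag π π
  let O : U.left.Opens := ⟨Points.ofPt π ⁻¹' W, hW.preimage (Points.continuous_ofPt π)⟩
  let U' : Over S := Over.mk (O.ι ≫ U.hom)
  let g : U' ⟶ U := Over.homMk O.ι
  let P := Limits.pullback (prod.map g g) (prod.lift t s)
  let e : P ⟶ U' ⨯ U' := pullback.fst (prod.map g g) (prod.lift t s)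
  let r : P ⟶ R := pullback.snd (prod.map g g) (prod.lift t s)
  have hsq : IsPullback (prod.lift (e ≫ prod.fst) (e ≫ prod.snd)) r (prod.map g g)
      (prod.lift t s) := by
    have h : prod.lift (e ≫ prod.fst) (e ≫ prod.snd) = e := by
      refine prod.hom_ext ?_ ?_ <;> simp [prod.lift_fst, prod.lift_snd]
    rw [h]
    exact IsPullback.of_hasPullback _ _
  have h1 : e ≫ prod.fst ≫ g = r ≫ t := by
    simpa [prod.lift_fst, prod.map_fst] using congr($(hsq.w) ≫ prod.fst)
  have h2 : e ≫ prod.snd ≫ g = r ≫ s := by
    simpa [prod.lift_snd, prod.map_snd] using congr($(hsq.w) ≫ prod.snd)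
  let s' := e ≫ prod.snd
  let t' := e ≫ prod.fst
  let π' := quotMap s' t'
  haveI := isLocallySurjective_quotMap s' t'
  have : IsIso (QuotSh.repIsoUliftYoneda Scheme.fppfPrecoverage U').hom := inferInstance
  let φ : QuotSh.quot Scheme.fppfPrecoverage s' t' ⟶ G :=
    coequalizer.desc
      ((QuotSh.repIsoUliftYoneda Scheme.fppfPrecoverage U').hom ≫ (yon S).map g ≫ π) (by
        rw [repMap_repIso_hom_assoc, repMap_repIso_hom_assoc, ← Functor.map_comp_assoc,
          ← Functor.map_comp_assoc, Category.assoc, Category.assoc, h1, h2, Functor.map_comp,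
          Functor.map_comp, Category.assoc, Category.assoc, sq.w])
  have hφ : π' ≫ φ = (yon S).map g ≫ π := by
    simp only [π', quotMap, QuotSh.quotπ, φ, Category.assoc]
    erw [coequalizer.π_desc]
    simp
  have : Etale s.left := repWith_property he sq
  have : IsOpenImmersion g.left := inferInstanceAs (IsOpenImmersion O.ι)
  have : Etale t.left := repWith_property he sq.flip
  have hoi : RepWith @IsOpenImmersion φ :=
    repWith_isOpenImmersion_of_restrict (π := π) (π' := π') sq (quotMap_condition s' t') hsq hφ
  refine ⟨_, φ, isAlgSpace_of_representable hoi.rep hG, hoi, ?_⟩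
  apply Set.Subset.antisymm
  · rintro _ ⟨x, rfl⟩
    obtain ⟨x, rfl⟩ := surjective_map_of_isLocallySurjective π' x
    obtain ⟨u, rfl⟩ : ∃ u, Points.ofPt (𝟙 _) u = x :=
      ⟨Points.toScheme U' x, by rw [Points.ofPt_eq_map_ofScheme, Points.ofScheme_toScheme,
        Points.map_id]⟩
    rw [Points.map_ofPt, Points.map_ofPt, Category.id_comp, hφ, ofPt_yon_map_comp]
    exact u.2
  · intro w hw
    obtain ⟨u, rfl⟩ := surjective_ofPt hs w
    refine ⟨Points.ofPt π' (⟨u, hw⟩ : O), ?_⟩
    rw [Points.map_ofPt, hφ, ofPt_yon_map_comp]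
    rfl

end Groth.Agent.Lib.AlgSpace
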