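import Groth.Agent.Lib.AlgSpace.Local
import Groth.Agent.Lib.FFDesc.Effective

/-!
# Algebraic spaces library, part 8: descent to representability

A sheaf over `h_T` which becomes representable over an fppf cover `T'` of `T`, by a scheme
whose descent data relative to `T' ⟶ T` are effective, is representable. This applies in
particular to quasi-affine (affine, closed immersion, quasi-compact open immersion) schemes.
-/

universe u

open CategoryTheory CategoryTheory.Limits AlgebraicGeometry Opposite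

namespace Groth.Agent.Lib.AlgSpace

open AlgSp (Sp yon Representable RepWith)
open Groth.Agent.Lib.FFDesc (fpqcCover IsDescended)

variable {S : Scheme.{u}} {F : Sp S} {T T' V' : Over S} {f : F ⟶ (yon S).obj T} {p : T' ⟶ T}
  {fst : (yon S).obj V' ⟶ F} {g : V' ⟶ T'} (sq : IsPullback fst ((yon S).map g) f ((yon S).map p))

namespace DescendAux

/-- Two points of `V'` are related if they have the same image in `F`. -/
def Rel (fst : (yon S).obj V' ⟶ F) {Z : Over S} (a b : Z ⟶ V') : Prop :=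
  (yon S).map a ≫ fst = (yon S).map b ≫ fst

include sq in
theorem exists_rel {Z : Over S} (a : Z ⟶ V') (x : Z ⟶ T') (h : a ≫ g ≫ p = x ≫ p) :
    ∃! b : Z ⟶ V', b ≫ g = x ∧ Rel fst a b := by
  have w : ((yon S).map a ≫ fst) ≫ f = (yon S).map x ≫ (yon S).map p := by
    rw [Category.assoc, sq.w, ← Functor.map_comp, ← Functor.map_comp, ← Functor.map_comp, h]
  obtain ⟨b, hb⟩ := (yon S).map_surjective (sq.lift ((yon S).map a ≫ fst) ((yon S).map x) w)
  refine ⟨b, ⟨(yon S).map_injective (by rw [Functor.map_comp, hb, sq.lift_snd]),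
    by rw [Rel, hb, sq.lift_fst]⟩, fun b' hb' ↦ (yon S).map_injective (sq.hom_ext ?_ ?_)⟩
  · rw [hb, sq.lift_fst]; exact hb'.2.symm
  · rw [hb, sq.lift_snd, ← Functor.map_comp, hb'.1]

include sq in
theorem comp_p_eq {Z : Over S} {a b : Z ⟶ V'} (h : Rel fst a b) : a ≫ g ≫ p = b ≫ g ≫ p := by
  apply (yon S).map_injective
  simp only [Functor.map_comp]
  rw [← sq.w, reassoc_of% h]

/-- The points over `x₁` related to those over `x₀`. -/
noncomputable def trMap {Z : Scheme.{u}} (x₀ x₁ : Z ⟶ T'.left) (h : x₀ ≫ p.left = x₁ ≫ p.left)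
    (v : Desc.Lifts (Over.mk g.left) x₀) : Desc.Lifts (Over.mk g.left) x₁ :=
  let W : Over S := Over.mk (x₀ ≫ T'.hom)
  let a : W ⟶ V' := Over.homMk v.1 (by
    have hv : v.1 ≫ g.left = x₀ := v.2
    change v.1 ≫ V'.hom = x₀ ≫ T'.hom
    rw [← Over.w g, reassoc_of% hv])
  let x : W ⟶ T' := Over.homMk x₁ (by
    change x₁ ≫ T'.hom = x₀ ≫ T'.hom
    rw [← Over.w p, reassoc_of% h])
  let ex := exists_rel sq a x (Over.OverMorphism.ext (by
    have hv : v.1 ≫ g.left = x₀ := v.2
    change v.1 ≫ g.left ≫ p.left = x₁ ≫ p.left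
    rw [reassoc_of% hv, h]))
  ⟨ex.exists.choose.left, congrArg (fun m ↦ Over.Hom.left m) ex.exists.choose_spec.1⟩

theorem trMap_eq {Z : Over S} (a b : Z ⟶ V') (hab : Rel fst a b) (x₀ x₁ : Z.left ⟶ T'.left)
    (h₀ : a.left ≫ g.left = x₀) (h₁ : b.left ≫ g.left = x₁) (h : x₀ ≫ p.left = x₁ ≫ p.left) :
    (trMap sq x₀ x₁ h ⟨a.left, h₀⟩).1 = b.left := by
  subst h₀ h₁
  let W : Over S := Over.mk ((a.left ≫ g.left) ≫ T'.hom)
  let a' : W ⟶ V' := Over.homMk a.left (by
    change a.left ≫ V'.hom = (a.left ≫ g.left) ≫ T'.hom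
    rw [Category.assoc, Over.w g])
  let x : W ⟶ T' := Over.homMk (b.left ≫ g.left) (by
    change (b.left ≫ g.left) ≫ T'.hom = (a.left ≫ g.left) ≫ T'.hom
    rw [← Over.w p]
    exact (Category.assoc _ _ _).symm.trans ((congrArg (· ≫ T.hom) h.symm).trans (Category.assoc _ _ _)))
  have hx : a' ≫ g ≫ p = x ≫ p := Over.OverMorphism.ext
    ((Category.assoc _ _ _).symm.trans h)
  have ex := exists_rel sq a' x hx
  let e : W ⟶ Z := Over.homMk (𝟙 _) (by
    change 𝟙 _ ≫ Z.hom = (a.left ≫ g.left) ≫ T'.hom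
    rw [Category.id_comp, ← Over.w a, Category.assoc, Over.w g])
  have hea : e ≫ a = a' := Over.OverMorphism.ext (Category.id_comp _)
  have heb : (e ≫ b) ≫ g = x :=
    Over.OverMorphism.ext (congrArg (· ≫ g.left) (Category.id_comp b.left))
  have hr : Rel fst a' (e ≫ b) := by
    rw [← hea, Rel, Functor.map_comp, Functor.map_comp, Category.assoc, Category.assoc, hab]
  change ex.exists.choose.left = b.left
  rw [ex.unique ex.exists.choose_spec ⟨heb, hr⟩]
  exact Category.id_comp _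

theorem trMap_rel {Z : Scheme.{u}} (x₀ x₁ : Z ⟶ T'.left) (h : x₀ ≫ p.left = x₁ ≫ p.left)
    (v : Desc.Lifts (Over.mk g.left) x₀) :
    ∃ a b : Over.mk (x₀ ≫ T'.hom) ⟶ V',
      a.left = v.1 ∧ b.left = (trMap sq x₀ x₁ h v).1 ∧ Rel fst a b :=
  ⟨_, _, rfl, rfl, (exists_rel sq _ _ (Over.OverMorphism.ext (by
    have hv : v.1 ≫ g.left = x₀ := v.2
    change v.1 ≫ g.left ≫ p.left = x₁ ≫ p.left
    rw [reassoc_of% hv, h]))).exists.choose_spec.2⟩

theorem trMap_self {Z : Scheme.{u}} (x : Z ⟶ T'.left) (v : Desc.Lifts (Over.mk g.left) x) :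
    trMap sq x x rfl v = v := by
  obtain ⟨a, -, ha, -, -⟩ := trMap_rel sq x x rfl v
  have h₀ : a.left ≫ g.left = x := (congrArg (· ≫ g.left) ha).trans v.2
  have e : v = ⟨a.left, h₀⟩ := Subtype.ext ha.symm
  rw [e]
  exact Subtype.ext (trMap_eq sq a a rfl x x h₀ h₀ rfl)

theorem trMap_comp {Z : Scheme.{u}} (x₀ x₁ x₂ : Z ⟶ T'.left) (h₀₁ : x₀ ≫ p.left = x₁ ≫ p.left)
    (h₁₂ : x₁ ≫ p.left = x₂ ≫ p.left) (v : Desc.Lifts (Over.mk g.left) x₀) :
    trMap sq x₁ x₂ h₁₂ (trMap sq x₀ x₁ h₀₁ v) = trMap sq x₀ x₂ (h₀₁.trans h₁₂) v := by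
  obtain ⟨a, b, ha, hb, hab⟩ := trMap_rel sq x₀ x₁ h₀₁ v
  obtain ⟨a', c, ha', hc, hac⟩ := trMap_rel sq x₀ x₂ (h₀₁.trans h₁₂) v
  obtain rfl : a = a' := Over.OverMorphism.ext (ha.trans ha'.symm)
  have h₁ : b.left ≫ g.left = x₁ :=
    (congrArg (· ≫ g.left) hb).trans (trMap sq x₀ x₁ h₀₁ v).2
  have h₂ : c.left ≫ g.left = x₂ :=
    (congrArg (· ≫ g.left) hc).trans (trMap sq x₀ x₂ (h₀₁.trans h₁₂) v).2
  have e : trMap sq x₀ x₁ h₀₁ v = ⟨b.left, h₁⟩ := Subtype.ext hb.symm
  rw [e]
  exact Subtype.ext ((trMap_eq sq b c (hab.symm.trans hac) x₁ x₂ h₁ h₂ h₁₂).trans hc)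

/-- The descent datum on the representing scheme. -/
noncomputable def datum : Desc.SchDD p.left where
  obj := Over.mk g.left
  φ Z x₀ x₁ h :=
    { toFun := trMap sq x₀ x₁ h
      invFun := trMap sq x₁ x₀ h.symm
      left_inv := fun v ↦ by rw [trMap_comp, trMap_self]
      right_inv := fun v ↦ by rw [trMap_comp, trMap_self] }
  φ_natural Z Z' k x₀ x₁ h h' v v' hv := by
    obtain ⟨a, b, ha, hb, hab⟩ := trMap_rel sq x₀ x₁ h v
    let k' : Over.mk ((k ≫ x₀) ≫ T'.hom) ⟶ Over.mk (x₀ ≫ T'.hom) :=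
      Over.homMk k (Category.assoc _ _ _).symm
    have hr : Rel fst (k' ≫ a) (k' ≫ b) := by
      unfold Rel
      simp only [Functor.map_comp, Category.assoc]
      exact congrArg ((yon S).map k' ≫ ·) hab
    have e : v' = ⟨(k' ≫ a).left, by
        change (k ≫ a.left) ≫ g.left = k ≫ x₀
        rw [Category.assoc]
        exact congrArg (k ≫ ·) ((congrArg (· ≫ g.left) ha).trans v.2)⟩ :=
      Subtype.ext (hv.trans (congrArg (k ≫ ·) ha.symm))
    rw [e]
    refine (trMap_eq sq (k' ≫ a) (k' ≫ b) hr _ _ _ ?_ h').trans (congrArg (k ≫ ·) hb)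
    change (k ≫ b.left) ≫ g.left = k ≫ x₁
    rw [Category.assoc]
    exact congrArg (k ≫ ·) ((congrArg (· ≫ g.left) hb).trans (trMap sq x₀ x₁ h v).2)
  φ_self Z x v := trMap_self sq x v
  φ_comp Z x₀ x₁ x₂ h₀₁ h₁₂ v := trMap_comp sq x₀ x₁ x₂ h₀₁ h₁₂ v

theorem datum_obj : (datum sq).obj = Over.mk g.left := rfl

variable {U : Over T.left} {q : V'.left ⟶ U.left} (H : IsDescended (datum sq) U q)
include H

theorem q_comp_hom : q ≫ U.hom ≫ T.hom = V'.hom := by
  refine ((Category.assoc _ _ _).symm.trans (congrArg (· ≫ T.hom) H.isPullback.w.symm)).trans ?_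
  refine (Category.assoc _ _ _).trans ?_
  exact (congrArg (g.left ≫ ·) (Over.w p)).trans (Over.w g)

theorem rel_iff {Z : Over S} (a b : Z ⟶ V') : Rel fst a b ↔ a.left ≫ q = b.left ≫ q := by
  constructor
  · intro hab
    have hp' : (a.left ≫ g.left) ≫ p.left = (b.left ≫ g.left) ≫ p.left := by
      simpa using congrArg (fun m ↦ Over.Hom.left m) (comp_p_eq sq hab)
    exact (H.φ_comp_q (a.left ≫ g.left) (b.left ≫ g.left) hp' ⟨a.left, rfl⟩).symm.trans
      (congrArg (· ≫ q) (trMap_eq sq a b hab _ _ rfl rfl hp'))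
  · intro hq
    have w : g.left ≫ p.left = q ≫ U.hom := H.isPullback.w
    have hp' : a ≫ g ≫ p = b ≫ g ≫ p := Over.OverMorphism.ext (by
      change a.left ≫ g.left ≫ p.left = b.left ≫ g.left ≫ p.left
      rw [w, reassoc_of% hq])
    obtain ⟨c, ⟨hc, hac⟩, -⟩ := exists_rel sq a (b ≫ g) (hp'.trans (Category.assoc _ _ _).symm)
    have hc' : (a.left ≫ g.left) ≫ p.left = (c.left ≫ g.left) ≫ p.left := by
      simpa using congrArg (fun m ↦ Over.Hom.left m) (comp_p_eq sq hac)
    have h1 : a.left ≫ q = c.left ≫ q :=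
      (H.φ_comp_q (a.left ≫ g.left) (c.left ≫ g.left) hc' ⟨a.left, rfl⟩).symm.trans
        (congrArg (· ≫ q) (trMap_eq sq a c hac _ _ rfl rfl hc'))
    have : c.left = b.left :=
      H.isPullback.hom_ext (congrArg (fun m ↦ Over.Hom.left m) hc) (h1.symm.trans hq)
    rwa [show c = b from Over.OverMorphism.ext this] at hac

end DescendAux

open DescendAux

/-- Descent to representability: if the base change of `F ⟶ h_T` along an fppf cover is a scheme
on which the descent datum is effective, then `F` is a scheme. -/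
theorem exists_iso_yon_of_descent (hp : fppfCover p.left) {fst : (yon S).obj V' ⟶ F}
    {g : V' ⟶ T'} (sq : IsPullback fst ((yon S).map g) f ((yon S).map p))
    (hD : ∀ D : Desc.SchDD p.left, D.obj = Over.mk g.left → ∃ (U : Over T.left)
      (q : D.obj.left ⟶ U.left), IsDescended D U q) :
    ∃ (W : Over S) (w : W ⟶ T) (e : (yon S).obj W ≅ F) (k : V' ⟶ W),
      e.hom ≫ f = (yon S).map w ∧ (yon S).map k ≫ e.hom = fst ∧ IsPullback k g w p := by
  obtain ⟨U, q, H⟩ := hD (datum sq) rfl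
  have := hp.1.1
  have := hp.1.2
  have := hp.2
  let W : Over S := Over.mk (U.hom ≫ T.hom)
  let w : W ⟶ T := Over.homMk U.hom
  let k : V' ⟶ W := Over.homMk q (q_comp_hom sq H)
  have hk : fppfCover k.left :=
    MorphismProperty.of_isPullback (P := fppfCover) H.isPullback hp
  have := isLocallySurjective_yon_map k hk
  have : Sheaf.IsLocallySurjective fst := isLocallySurjective_of_lift _ fun Z b ↦ by
    obtain ⟨z, hz⟩ := (yon S).map_surjective (b ≫ f)
    let Z' := Limits.pullback z p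
    have hs : fppfCover (Limits.pullback.fst z p).left :=
      MorphismProperty.of_isPullback
        ((IsPullback.of_hasPullback z p).map (Over.forget S)).flip hp
    refine ⟨Z', Limits.pullback.fst z p,
      sq.lift ((yon S).map (Limits.pullback.fst z p) ≫ b) ((yon S).map (Limits.pullback.snd z p)) ?_,
      hs, sq.lift_fst _ _ _⟩
    rw [Category.assoc, ← hz, ← Functor.map_comp, ← Functor.map_comp, Limits.pullback.condition]
  have key : ∀ {Z : Over S} (a b : Z ⟶ V'),
      (yon S).map a ≫ fst = (yon S).map b ≫ fst ↔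
        (yon S).map a ≫ (yon S).map k = (yon S).map b ≫ (yon S).map k := fun a b ↦ by
    rw [← Functor.map_comp, ← Functor.map_comp]
    refine (rel_iff sq H a b).trans ⟨fun h ↦ congrArg _ (Over.OverMorphism.ext h), fun h ↦ ?_⟩
    exact congrArg (fun m ↦ Over.Hom.left m) ((yon S).map_injective h)
  obtain ⟨l, hl⟩ := exists_desc fst (IsPullback.of_hasPullback fst fst) ((yon S).map k) (by
    refine hom_ext fun Z c ↦ ?_
    obtain ⟨a, ha⟩ := (yon S).map_surjective (c ≫ Limits.pullback.fst fst fst)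
    obtain ⟨b, hb⟩ := (yon S).map_surjective (c ≫ Limits.pullback.snd fst fst)
    rw [← Category.assoc, ← Category.assoc, ← ha, ← hb, ← key, ha, hb, Category.assoc,
      Category.assoc, Limits.pullback.condition])
  obtain ⟨m, hm⟩ := exists_desc ((yon S).map k)
    (IsPullback.of_hasPullback ((yon S).map k) ((yon S).map k)) fst (by
    refine hom_ext fun Z c ↦ ?_
    obtain ⟨a, ha⟩ := (yon S).map_surjective
      (c ≫ Limits.pullback.fst ((yon S).map k) ((yon S).map k))
    obtain ⟨b, hb⟩ := (yon S).map_surjective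
      (c ≫ Limits.pullback.snd ((yon S).map k) ((yon S).map k))
    rw [← Category.assoc, ← Category.assoc, ← ha, ← hb, key, ha, hb, Category.assoc,
      Category.assoc, Limits.pullback.condition])
  let e : (yon S).obj W ≅ F :=
    ⟨m, l, by rw [← cancel_epi ((yon S).map k), reassoc_of% hm, hl, Category.comp_id],
      by rw [← cancel_epi fst, reassoc_of% hl, hm, Category.comp_id]⟩
  have hkw : k ≫ w = g ≫ p := Over.OverMorphism.ext H.isPullback.w.symm
  refine ⟨W, w, e, k, ?_, hm, ?_⟩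
  · rw [← cancel_epi ((yon S).map k)]
    change _ ≫ m ≫ f = _
    rw [reassoc_of% hm, sq.w, ← Functor.map_comp, ← Functor.map_comp, hkw]
  · exact IsPullback.of_map (Over.forget S) hkw H.isPullback.flip

end Groth.Agent.Lib.AlgSpace
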