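import Groth.Agent.Lib.AlgSpace.Quot

/-!
# Algebraic spaces library, part 12: quotient sheaves of pre-equivalence relations

* `exists_fppfCover_of_mem`: covering sieves are refined by one fppf cover, up to a coproduct;
* `exists_rel_of_quotMap_eq`: if the relation on points given by `(t, s)` is an equivalence, two
  points with equal image in `U/R` are related after an fppf cover;
* `repWith_isOpenImmersion_of_restrict'`: restriction to an arbitrary map gives an open subspace as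
  soon as the saturation is an open covered locally surjectively.
-/

universe w u

open CategoryTheory CategoryTheory.Limits AlgebraicGeometry Opposite

namespace Groth.Agent.Lib.AlgSpace

variable {S : Scheme.{u}}

open AlgSp (Sp yon Representable RepWith)

/-- Data on the members of a covering sieve which can be glued along coproducts live on one fppf
cover. -/
theorem exists_fppfCover_of_mem {T : Over S} {σ : Sieve T} (hσ : σ ∈ AlgSp.J S T) :
    ∃ (ι : Type u) (Z : ι → Over S) (g : ∀ i, Z i ⟶ T) (p : sigmaOver Z ⟶ T),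
      fppfCover p.left ∧ (∀ i, sigmaOverι Z i ≫ p = g i) ∧ ∀ i, σ (g i) := by
  rw [AlgSp.J_eq, GrothendieckTopology.mem_over_iff] at hσ
  haveI : MorphismProperty.IsMultiplicative @LocallyOfFinitePresentation.{u} :=
    { id_mem := fun X ↦ (inferInstance : LocallyOfFinitePresentation (𝟙 X)) }
  obtain ⟨𝒰, hle⟩ := Scheme.exists_cover_of_mem_grothendieckTopology
    (P := @Flat ⊓ @LocallyOfFinitePresentation) hσ
  let Z : 𝒰.I₀ → Over S := fun i ↦ Over.mk (𝒰.f i ≫ T.hom)
  refine ⟨𝒰.I₀, Z, fun i ↦ Over.homMk (𝒰.f i),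
    Over.homMk (Sigma.desc 𝒰.f) (Sigma.hom_ext _ _ fun i ↦ by simp [Z]), ⟨⟨⟨fun x ↦ ?_⟩, ?_⟩, ?_⟩,
    fun i ↦ ?_, fun i ↦ ?_⟩
  · obtain ⟨i, y, hy⟩ := 𝒰.exists_eq x
    refine ⟨Sigma.ι (fun i ↦ 𝒰.X i) i y, ?_⟩
    rw [← Scheme.Hom.comp_apply]
    change (Sigma.ι (fun i ↦ 𝒰.X i) i ≫ Sigma.desc 𝒰.f) y = x
    rw [Sigma.ι_desc]
    exact hy
  · exact IsZariskiLocalAtSource.sigmaDesc (P := @Flat) fun i ↦ (𝒰.map_prop i).1
  · exact IsZariskiLocalAtSource.sigmaDesc (P := @LocallyOfFinitePresentation)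
      fun i ↦ (𝒰.map_prop i).2
  · ext
    exact Sigma.ι_desc _ _
  · exact (Sieve.overEquiv_iff _ _).1 (hle _ _ (Presieve.ofArrows.mk i))

/-- Maps of schemes over `S` out of a coproduct. -/
theorem exists_sigmaOver_desc {ι : Type u} {Z : ι → Over S} {V : Over S} (a : ∀ i, Z i ⟶ V) :
    ∃ c : sigmaOver Z ⟶ V, ∀ i, sigmaOverι Z i ≫ c = a i :=
  ⟨Over.homMk (Sigma.desc fun i ↦ (a i).left) (Sigma.hom_ext _ _ fun i ↦ by simp [Over.w]),
    fun i ↦ Over.OverMorphism.ext (Sigma.ι_desc _ _)⟩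

theorem sigmaOver_hom_ext {ι : Type u} {Z : ι → Over S} {V : Over S} {a b : sigmaOver Z ⟶ V}
    (h : ∀ i, sigmaOverι Z i ≫ a = sigmaOverι Z i ≫ b) : a = b :=
  Over.OverMorphism.ext (Sigma.hom_ext _ _ fun i ↦ congr($(h i).left))

section Rel

variable {R U : Over S} {s t : R ⟶ U}
  (hrel : ∀ T : Over S, Equivalence fun a b : T ⟶ U ↦ ∃ r : T ⟶ R, r ≫ t = a ∧ r ≫ s = b)

/-- Points of `U` up to the relation of `(t, s)`. -/
def relSetoid (T : Over S) : Setoid (ULift.{u + 1} (T ⟶ U)) where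
  r a b := ∃ r : T ⟶ R, r ≫ t = a.down ∧ r ≫ s = b.down
  iseqv :=
    ⟨fun a ↦ (hrel T).refl a.down, fun w ↦ (hrel T).symm w, fun w w' ↦ (hrel T).trans w w'⟩

/-- The naive quotient presheaf. -/
noncomputable def relQuot : (Over S)ᵒᵖ ⥤ Type (u + 1) where
  obj T := Quotient (relSetoid hrel T.unop)
  map {T T'} f := ↾(Quotient.map (fun a ↦ ⟨f.unop ≫ a.down⟩) fun a b ⟨r, h1, h2⟩ ↦
    ⟨f.unop ≫ r, by rw [Category.assoc, h1], by rw [Category.assoc, h2]⟩)
  map_id T := by
    ext x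
    induction x using Quotient.inductionOn
    exact congrArg (Quotient.mk _) (ULift.ext _ _ (Category.id_comp _))
  map_comp f g := by
    ext x
    induction x using Quotient.inductionOn
    exact congrArg (Quotient.mk _) (ULift.ext _ _ (Category.assoc _ _ _))

/-- The projection to the naive quotient. -/
noncomputable def toRelQuot : preRep U ⟶ relQuot hrel where
  app T := ↾fun a ↦ Quotient.mk (relSetoid hrel T.unop) a
  naturality _ _ _ := rfl

include hrel

/-- Two points with the same image in the quotient sheaf are related after an fppf cover. -/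
theorem exists_rel_of_quotMap_eq {T : Over S} (a b : T ⟶ U)
    (h : (yon S).map a ≫ quotMap s t = (yon S).map b ≫ quotMap s t) :
    ∃ (T' : Over S) (p : T' ⟶ T) (r : T' ⟶ R),
      fppfCover p.left ∧ r ≫ t = p ≫ a ∧ r ≫ s = p ≫ b := by
  let ψ := toRelQuot hrel
  let G : ((Over S)ᵒᵖ ⥤ Type (u + 1)) ⥤ Sp S := presheafToSheaf (AlgSp.J S) (Type (u + 1))
  have w : preMap s ≫ ψ = preMap t ≫ ψ := by
    ext T r
    exact Quotient.sound (s := relSetoid hrel T.unop)
      ((hrel T.unop).symm ⟨r.down, rfl, rfl⟩)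
  let l : QuotSh.quot Scheme.fppfPrecoverage s t ⟶ G.obj (relQuot hrel) :=
    coequalizer.desc (G.map ψ) (by
      change G.map _ ≫ _ = G.map _ ≫ _
      rw [← G.map_comp, ← G.map_comp, w])
  have key : ∀ c : T ⟶ U, secEquiv T ((yon S).map c ≫ quotMap s t ≫ l) =
      (toSheafify (AlgSp.J S) (relQuot hrel)).app (op T) (ψ.app (op T) ⟨c⟩) := fun c ↦ by
    have e : quotMap s t ≫ l = (QuotSh.repIsoUliftYoneda Scheme.fppfPrecoverage U).inv ≫ G.map ψ := by
      simp only [quotMap, QuotSh.quotπ, l, Category.assoc]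
      erw [coequalizer.π_desc]
    rw [e]
    have h1 := congr($(toSheafify_naturality (AlgSp.J S) ψ).app (op T) ⟨c⟩)
    refine Eq.trans ?_ h1.symm
    rw [← Category.assoc, secEquiv_comp, secEquiv_comp]
    refine congrArg ((G.map ψ).hom.app (op T)) ?_
    change (toSheafify (AlgSp.J S) (preRep U)).app (op T) (secEquiv T ((yon S).map c)) = _
    congr 1
  have e : (toSheafify (AlgSp.J S) (relQuot hrel)).app (op T) (ψ.app (op T) ⟨a⟩) =
      (toSheafify (AlgSp.J S) (relQuot hrel)).app (op T) (ψ.app (op T) ⟨b⟩) := by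
    rw [← key, ← key, ← Category.assoc, h, Category.assoc]
  obtain ⟨ι, Z, g, p, hp, hpg, hg⟩ := exists_fppfCover_of_mem (S := S)
    (Presheaf.equalizerSieve_mem (AlgSp.J S) _ _ _ e)
  have hr : ∀ i, ∃ r : Z i ⟶ R, r ≫ t = g i ≫ a ∧ r ≫ s = g i ≫ b := fun i ↦
    Quotient.exact (s := relSetoid hrel (Z i)) (hg i)
  choose r hrt hrs using hr
  obtain ⟨c, hc⟩ := exists_sigmaOver_desc r
  refine ⟨_, p, c, hp, sigmaOver_hom_ext fun i ↦ ?_, sigmaOver_hom_ext fun i ↦ ?_⟩
  · rw [reassoc_of% hc i, reassoc_of% hpg i, hrt]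
  · rw [reassoc_of% hc i, reassoc_of% hpg i, hrs]

end Rel

/-- Restriction of a relation along any map `g` gives an open immersion on quotients, provided the
saturation of the image of `g` is an open onto which the orbit map is locally surjective. -/
theorem repWith_isOpenImmersion_of_restrict' {F F' : Sp S} {R U R' U' P WO : Over S} {s t : R ⟶ U}
    {g : U' ⟶ U} {s' t' : R' ⟶ U'} {r : R' ⟶ R} {π : (yon S).obj U ⟶ F}
    {π' : (yon S).obj U' ⟶ F'} {φ : F' ⟶ F}
    [Sheaf.IsLocallySurjective π] [Sheaf.IsLocallySurjective π']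
    (hπ : (yon S).map s ≫ π = (yon S).map t ≫ π)
    (hπ₂ : ∀ (T : Over S) (a b : T ⟶ U), (yon S).map a ≫ π = (yon S).map b ≫ π →
      ∃ (T' : Over S) (p : T' ⟶ T) (c : T' ⟶ R),
        fppfCover p.left ∧ c ≫ t = p ≫ a ∧ c ≫ s = p ≫ b)
    (hπ' : (yon S).map s' ≫ π' = (yon S).map t' ≫ π')
    (hsq : IsPullback (prod.lift t' s') r (prod.map g g) (prod.lift t s))
    (hφ : π' ≫ φ = (yon S).map g ≫ π) {a : P ⟶ U'} {b : P ⟶ R} (hab : IsPullback a b g t)
    {w : WO ⟶ U} [IsOpenImmersion w.left] {c : P ⟶ WO} (hc : c ≫ w = b ≫ s)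
    [Sheaf.IsLocallySurjective ((yon S).map c)] : RepWith @IsOpenImmersion φ := by
  have : Mono w := (Over.forget S).mono_of_mono_map (inferInstanceAs (Mono w.left))
  -- `φ` is a monomorphism
  have hmono : Mono φ := mono_of_yon φ fun T x₀ y₀ (e : x₀ ≫ φ = y₀ ≫ φ) ↦ by
    obtain ⟨T₁, p₁, x, hp₁, hx⟩ := exists_lift_of_isLocallySurjective π' x₀
    obtain ⟨T₂, p₂, y, hp₂, hy⟩ := exists_lift_of_isLocallySurjective π' ((yon S).map p₁ ≫ y₀)
    obtain ⟨x, rfl⟩ := (yon S).map_surjective x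
    obtain ⟨y, rfl⟩ := (yon S).map_surjective y
    have key : (yon S).map (p₂ ≫ x ≫ g) ≫ π = (yon S).map (y ≫ g) ≫ π := by
      simp only [Functor.map_comp, Category.assoc, ← hφ]
      rw [reassoc_of% hx, reassoc_of% hy, e]
    obtain ⟨T₃, p₃, d, hp₃, h1, h2⟩ := hπ₂ _ _ _ key
    have hpp : fppfCover (p₃ ≫ p₂ ≫ p₁).left :=
      MorphismProperty.comp_mem fppfCover _ _ hp₃ (MorphismProperty.comp_mem fppfCover _ _ hp₂ hp₁)
    haveI := epi_yon_map (p₃ ≫ p₂ ≫ p₁) hpp
    rw [← cancel_epi ((yon S).map (p₃ ≫ p₂ ≫ p₁))]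
    simp only [Functor.map_comp, Category.assoc]
    rw [← hx, ← hy]
    have hw : prod.lift (p₃ ≫ p₂ ≫ x) (p₃ ≫ y) ≫ prod.map g g = d ≫ prod.lift t s := by
      rw [prod.lift_map, prod.comp_lift, h1, h2]
      simp only [Category.assoc]
    have h3 := hsq.lift_fst _ d hw
    obtain ⟨l, hlt, hls⟩ : ∃ l, l ≫ t' = p₃ ≫ p₂ ≫ x ∧ l ≫ s' = p₃ ≫ y :=
      ⟨_, by simpa [prod.lift_fst] using congr($h3 ≫ prod.fst),
        by simpa [prod.lift_snd] using congr($h3 ≫ prod.snd)⟩
    rw [← Functor.map_comp_assoc, ← Functor.map_comp_assoc, Category.assoc, ← hlt,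
      ← Functor.map_comp_assoc, ← hls,
      Functor.map_comp, Functor.map_comp, Category.assoc, Category.assoc, hπ']
  -- the open subscheme is the base change of `φ`
  have hc' : ((yon S).map a ≫ π') ≫ φ = (yon S).map c ≫ (yon S).map w ≫ π := by
    rw [Category.assoc, hφ, ← Functor.map_comp_assoc, ← Functor.map_comp_assoc, hc, hab.w,
      Functor.map_comp, Functor.map_comp, Category.assoc, Category.assoc, hπ]
  obtain ⟨fst, hfst⟩ := exists_desc ((yon S).map c)
    (IsPullback.of_hasPullback ((yon S).map c) ((yon S).map c)) ((yon S).map a ≫ π') (by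
      rw [← cancel_mono φ]
      simp only [Category.assoc] at hc' ⊢
      rw [hc', Limits.pullback.condition_assoc])
  have hfac : fst ≫ φ = (yon S).map w ≫ π := by
    rw [← cancel_epi ((yon S).map c), reassoc_of% hfst, ← Category.assoc, hc']
  refine repWith_isOpenImmersion_of_isLocallySurjective π
    (sq := isPullback_of_yon hfac (fun T x x' _ e ↦ (cancel_mono ((yon S).map w)).1 e)
      fun T x₀ y₀ e ↦ ?_) ((AlgSp.repWith_yon_map_iff _ w).2 ‹IsOpenImmersion w.left›)
  obtain ⟨y, rfl⟩ := (yon S).map_surjective y₀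
  obtain ⟨T', p, x, hp, hx⟩ := exists_lift_of_isLocallySurjective π' x₀
  obtain ⟨x, rfl⟩ := (yon S).map_surjective x
  have key : (yon S).map (x ≫ g) ≫ π = (yon S).map (p ≫ y) ≫ π := by
    simp only [Functor.map_comp, Category.assoc, ← hφ, ← e]
    rw [reassoc_of% hx]
  obtain ⟨T'', q, d, hq, h1, h2⟩ := hπ₂ _ _ _ key
  have hy : Set.range y.left ⊆ Set.range w.left := by
    rintro _ ⟨z, rfl⟩
    obtain ⟨z, rfl⟩ := hp.1.1.surj z
    obtain ⟨z, rfl⟩ := hq.1.1.surj z
    refine ⟨(hab.lift (q ≫ x) d (by rw [Category.assoc, h1]) ≫ c).left z, ?_⟩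
    rw [← Scheme.Hom.comp_apply, ← Over.comp_left, Category.assoc, hc, ← Category.assoc,
      hab.lift_snd, h2]
    rfl
  let l : T ⟶ WO := Over.homMk (IsOpenImmersion.lift w.left y.left hy) (by
    rw [← Over.w w, IsOpenImmersion.lift_fac_assoc, Over.w])
  have hlw : l ≫ w = y := Over.OverMorphism.ext (IsOpenImmersion.lift_fac _ _ _)
  refine ⟨(yon S).map l, ?_, by rw [← Functor.map_comp, hlw]⟩
  rw [← cancel_mono φ, Category.assoc, hfac, e, ← Functor.map_comp_assoc, hlw]

end Groth.Agent.Lib.AlgSpace
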