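import Mathlib.AlgebraicGeometry.Morphisms.ClosedImmersion
import Mathlib.AlgebraicGeometry.Limits
import Groth.Agent.Lib.AlgSpace.QuotGrpd

/-!
# Algebraic spaces library, part 13: coproducts of sheaves

For a colimit cofan of fppf sheaves: the coprojections are disjoint monomorphisms, every map from a
scheme decomposes, coprojections are open and closed immersions, universality over schemes,
coproducts of algebraic spaces are algebraic spaces.
-/

universe u

open CategoryTheory CategoryTheory.Limits AlgebraicGeometry Opposite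

namespace Groth.Agent.Lib.AlgSpace

variable {S : Scheme.{u}}

open AlgSp (Sp yon Representable RepWith IsAlgSpace)

variable {ι : Type u} {F : ι → Sp S}

/-- The coproduct of the underlying presheaves. -/
noncomputable def preSigma (F : ι → Sp S) : (Over S)ᵒᵖ ⥤ Type (u + 1) where
  obj T := Σ i, (F i).obj.obj T
  map f := ↾(Sigma.map id fun i ↦ (F i).obj.map f)
  map_id T := by
    refine ConcreteCategory.hom_ext _ _ fun ⟨i, x⟩ ↦ ?_
    change (⟨i, _⟩ : Σ i, (F i).obj.obj T) = ⟨i, _⟩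
    simp
  map_comp f g := by
    refine ConcreteCategory.hom_ext _ _ fun ⟨i, x⟩ ↦ ?_
    change (⟨i, _⟩ : Σ i, (F i).obj.obj _) = ⟨i, _⟩
    simp
    rfl

/-- The coprojections of presheaves. -/
noncomputable def preSigmaι (F : ι → Sp S) (i : ι) : (F i).obj ⟶ preSigma F where
  app T := ↾fun x ↦ ⟨i, x⟩
  naturality _ _ _ := rfl

/-- The coprojections into the sheafified coproduct. -/
noncomputable def shSigmaι (F : ι → Sp S) (i : ι) :
    F i ⟶ (presheafToSheaf (AlgSp.J S) (Type (u + 1))).obj (preSigma F) :=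
  ObjectProperty.homMk (preSigmaι F i ≫ toSheafify (AlgSp.J S) (preSigma F))

theorem app_eq_of_comp_eq {G H : Sp S} {T : Over S} (x : (yon S).obj T ⟶ G) (f : G ⟶ H) :
    secEquiv T (x ≫ f) = f.hom.app (op T) (secEquiv T x) := secEquiv_comp x f

theorem exists_equalizerSieve {c : Cofan F} (hc : IsColimit c) {T : Over S} {i j : ι}
    (x : (yon S).obj T ⟶ F i) (y : (yon S).obj T ⟶ F j) (h : x ≫ c.inj i = y ≫ c.inj j) :
    ∃ σ ∈ AlgSp.J S T, ∀ ⦃Z : Over S⦄ (g : Z ⟶ T), σ g →
      (⟨i, secEquiv Z ((yon S).map g ≫ x)⟩ : Σ i, (F i).obj.obj (op Z)) =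
        ⟨j, secEquiv Z ((yon S).map g ≫ y)⟩ := by
  let l := Cofan.IsColimit.desc hc (shSigmaι F)
  have e : secEquiv T (x ≫ shSigmaι F i) = secEquiv T (y ≫ shSigmaι F j) := by
    rw [← Cofan.IsColimit.fac hc (shSigmaι F) i, ← Cofan.IsColimit.fac hc (shSigmaι F) j,
      reassoc_of% h]
  rw [secEquiv_comp, secEquiv_comp] at e
  have hm := Presheaf.equalizerSieve_mem (AlgSp.J S) (toSheafify (AlgSp.J S) (preSigma F))
    (⟨i, secEquiv T x⟩ : (preSigma F).obj (op T)) ⟨j, secEquiv T y⟩ e
  refine ⟨_, hm, fun Z g hg ↦ ?_⟩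
  rw [secEquiv_map, secEquiv_map]
  exact hg

theorem mono_inj {c : Cofan F} (hc : IsColimit c) (i : ι) : Mono (c.inj i) := by
  refine mono_of_yon _ fun T x y h ↦ ?_
  obtain ⟨σ, hσ, hg⟩ := exists_equalizerSieve hc x y h
  obtain ⟨κ, Z, g, p, hp, hpg, hmem⟩ := exists_fppfCover_of_mem hσ
  haveI := epi_yon_map p hp
  rw [← cancel_epi ((yon S).map p)]
  refine hom_ext_of_family Z _ (sigmaOverι_mem_J Z) fun k ↦ ?_
  rw [← Functor.map_comp_assoc, ← Functor.map_comp_assoc, hpg]
  exact (secEquiv (Z k)).injective (eq_of_heq (Sigma.mk.inj (hg (g k) (hmem k))).2)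

theorem isEmpty_of_inj_eq {c : Cofan F} (hc : IsColimit c) {T : Over S} {i j : ι}
    (x : (yon S).obj T ⟶ F i) (y : (yon S).obj T ⟶ F j) (h : x ≫ c.inj i = y ≫ c.inj j)
    (hij : i ≠ j) : IsEmpty ↥T.left := by
  obtain ⟨σ, hσ, hg⟩ := exists_equalizerSieve hc x y h
  obtain ⟨κ, Z, g, p, hp, hpg, hmem⟩ := exists_fppfCover_of_mem hσ
  refine ⟨fun t ↦ ?_⟩
  obtain ⟨z, rfl⟩ := hp.1.1.surj t
  obtain ⟨k, z, rfl⟩ := (sigmaOpenCover (fun k ↦ (Z k).left)).exists_eq z
  exact hij (Sigma.mk.inj (hg (g k) (hmem k))).1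

/-- Locally, a map from a scheme to a coproduct goes to one of the summands. -/
theorem exists_local_lift {c : Cofan F} (hc : IsColimit c) {T : Over S}
    (b : (yon S).obj T ⟶ c.pt) :
    ∃ (κ : Type u) (Z : κ → Over S) (g : ∀ k, Z k ⟶ T) (p : sigmaOver Z ⟶ T) (f : κ → ι)
      (a : ∀ k, (yon S).obj (Z k) ⟶ F (f k)), fppfCover p.left ∧
      (∀ k, sigmaOverι Z k ≫ p = g k) ∧ ∀ k, a k ≫ c.inj (f k) = (yon S).map (g k) ≫ b := by
  let ψ : preSigma F ⟶ c.pt.obj :=
    { app := fun T ↦ ↾fun x ↦ (c.inj x.1).hom.app T x.2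
      naturality := fun T T' g ↦ by
        ext ⟨i, x⟩
        exact NatTrans.naturality_apply (c.inj i).hom g x }
  let l := Cofan.IsColimit.desc hc (shSigmaι F)
  let m : (presheafToSheaf (AlgSp.J S) (Type (u + 1))).obj (preSigma F) ⟶ c.pt :=
    ObjectProperty.homMk (sheafifyLift (AlgSp.J S) ψ c.pt.property)
  have hm : toSheafify (AlgSp.J S) (preSigma F) ≫ m.hom = ψ :=
    toSheafify_sheafifyLift _ _ _
  have hlm : l ≫ m = 𝟙 c.pt := Cofan.IsColimit.hom_ext hc _ _ fun i ↦ by
    rw [Category.comp_id, Cofan.IsColimit.fac_assoc]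
    refine ObjectProperty.hom_ext _ ?_
    change (preSigmaι F i ≫ toSheafify _ _) ≫ m.hom = _
    rw [Category.assoc, hm]
    rfl
  have hsv : Presheaf.imageSieve (toSheafify (AlgSp.J S) (preSigma F)) (U := T)
      (secEquiv T (b ≫ l)) ∈ AlgSp.J S T := Presheaf.imageSieve_mem _ _ _
  obtain ⟨κ, Z, g, p, hp, hpg, hmem⟩ := exists_fppfCover_of_mem hsv
  choose z hz using hmem
  refine ⟨κ, Z, g, p, fun k ↦ (z k).1, fun k ↦ (secEquiv (Z k)).symm (z k).2, hp, hpg, fun k ↦ ?_⟩
  apply (secEquiv (Z k)).injective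
  rw [secEquiv_comp, Equiv.apply_symm_apply]
  have h1 : ψ.app (op (Z k)) (z k) = secEquiv (Z k) ((yon S).map (g k) ≫ b) := by
    rw [← hm]
    refine (congrArg (m.hom.app (op (Z k))) (hz k)).trans ?_
    rw [← secEquiv_map, ← secEquiv_comp, Category.assoc, Category.assoc, hlm, Category.comp_id]
  exact h1

/-- Commuting squares on a jointly surjective family of open subschemes are cartesian. -/
theorem isPullback_of_family {c : Cofan F} (hc : IsColimit c) {U : Over S}
    {a : (yon S).obj U ⟶ c.pt} {V : ι → Over S} (u : ∀ i, V i ⟶ U)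
    [∀ i, IsOpenImmersion (u i).left] (hsurj : ∀ x : ↥U.left, ∃ i y, (u i).left y = x)
    (x : ∀ i, (yon S).obj (V i) ⟶ F i) (h : ∀ i, x i ≫ c.inj i = (yon S).map (u i) ≫ a) (i : ι) :
    IsPullback (x i) ((yon S).map (u i)) (c.inj i) a := by
  have := mono_inj hc
  have : Mono (u i) := (Over.forget S).mono_of_mono_map (inferInstanceAs (Mono (u i).left))
  refine isPullback_of_yon (h i) (fun T z z' _ e ↦ (cancel_mono ((yon S).map (u i))).1 e)
    fun T z w e ↦ ?_
  obtain ⟨w, rfl⟩ := (yon S).map_surjective w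
  have hr : Set.range w.left ⊆ Set.range (u i).left := by
    rintro _ ⟨t, rfl⟩
    obtain ⟨j, y, hy⟩ := hsurj (w.left t)
    by_contra hn
    have hij : i ≠ j := fun hij ↦ hn (hij ▸ ⟨y, hy⟩)
    let P := Limits.pullback w (u j)
    have key : ((yon S).map (pullback.fst w (u j)) ≫ z) ≫ c.inj i =
        ((yon S).map (pullback.snd w (u j)) ≫ x j) ≫ c.inj j := by
      rw [Category.assoc, Category.assoc, e, h j, ← Functor.map_comp_assoc,
        ← Functor.map_comp_assoc, pullback.condition]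
    obtain ⟨q, -, -⟩ := Scheme.exists_preimage_of_isPullback
      ((IsPullback.of_hasPullback w (u j)).map (Over.forget S)) t y hy.symm
    exact (isEmpty_of_inj_eq hc _ _ key hij).false q
  let l : T ⟶ V i := Over.homMk (IsOpenImmersion.lift (u i).left w.left hr) (by
    rw [← Over.w (u i), IsOpenImmersion.lift_fac_assoc, Over.w])
  have hl : l ≫ u i = w := Over.OverMorphism.ext (IsOpenImmersion.lift_fac _ _ _)
  refine ⟨(yon S).map l, ?_, by rw [← Functor.map_comp, hl]⟩
  rw [← cancel_mono (c.inj i), Category.assoc, h i, e, ← Functor.map_comp_assoc, hl]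

theorem disjoint_range_of_family {c : Cofan F} (hc : IsColimit c) {U : Over S}
    {a : (yon S).obj U ⟶ c.pt} {V : ι → Over S} (u : ∀ i, V i ⟶ U)
    (x : ∀ i, (yon S).obj (V i) ⟶ F i) (h : ∀ i, x i ≫ c.inj i = (yon S).map (u i) ≫ a)
    {i j : ι} (hij : i ≠ j) (y : ↥(V i).left) (z : ↥(V j).left) : (u i).left y ≠ (u j).left z := by
  intro e
  have key : ((yon S).map (pullback.fst (u i) (u j)) ≫ x i) ≫ c.inj i =
      ((yon S).map (pullback.snd (u i) (u j)) ≫ x j) ≫ c.inj j := by
    rw [Category.assoc, Category.assoc, h i, h j, ← Functor.map_comp_assoc,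
      ← Functor.map_comp_assoc, pullback.condition]
  obtain ⟨q, -, -⟩ := Scheme.exists_preimage_of_isPullback
      ((IsPullback.of_hasPullback (u i) (u j)).map (Over.forget S)) y z e
  exact (isEmpty_of_inj_eq hc _ _ key hij).false q

/-- A map from a scheme to a coproduct decomposes the scheme into open and closed pieces. -/
theorem exists_decomposition {c : Cofan F} (hc : IsColimit c) {T : Over S}
    (b : (yon S).obj T ⟶ c.pt) :
    ∃ (V : ι → Over S) (u : ∀ i, V i ⟶ T) (x : ∀ i, (yon S).obj (V i) ⟶ F i),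
      (∀ i, IsOpenImmersion (u i).left ∧ IsClosedImmersion (u i).left) ∧
      (∀ t : ↥T.left, ∃ i y, (u i).left y = t) ∧
      (∀ i, x i ≫ c.inj i = (yon S).map (u i) ≫ b) ∧
      ∀ i, IsPullback (x i) ((yon S).map (u i)) (c.inj i) b := by
  have := mono_inj hc
  obtain ⟨κ, Z, g, p, f, a, hp, hpg, ha⟩ := exists_local_lift hc b
  have hg : ∀ k, IsOpenMap (g k).left := fun k ↦ by
    have := hp.1.2
    have := hp.2
    rw [← hpg k, Over.comp_left]
    haveI : Flat (sigmaOverι Z k).left :=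
      inferInstanceAs (Flat (Sigma.ι (fun k ↦ (Z k).left) k))
    haveI : LocallyOfFinitePresentation (sigmaOverι Z k).left :=
      inferInstanceAs (LocallyOfFinitePresentation (Sigma.ι (fun k ↦ (Z k).left) k))
    exact Scheme.Hom.isOpenMap _
  have hcov : ∀ t : ↥T.left, ∃ k z, (g k).left z = t := fun t ↦ by
    obtain ⟨z, rfl⟩ := hp.1.1.surj t
    obtain ⟨k, z, rfl⟩ := (sigmaOpenCover (fun k ↦ (Z k).left)).exists_eq z
    exact ⟨k, z, by rw [← hpg k]; rfl⟩
  have hdis : ∀ k k', f k ≠ f k' → ∀ z z', (g k).left z ≠ (g k').left z' := fun k k' hk z z' e ↦ by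
    have key : ((yon S).map (pullback.fst (g k) (g k')) ≫ a k) ≫ c.inj (f k) =
        ((yon S).map (pullback.snd (g k) (g k')) ≫ a k') ≫ c.inj (f k') := by
      rw [Category.assoc, Category.assoc, ha k, ha k', ← Functor.map_comp_assoc,
        ← Functor.map_comp_assoc, pullback.condition]
    obtain ⟨q, -, -⟩ := Scheme.exists_preimage_of_isPullback
      ((IsPullback.of_hasPullback (g k) (g k')).map (Over.forget S)) z z' e
    exact (isEmpty_of_inj_eq hc _ _ key hk).false q
  let O : ι → T.left.Opens := fun i ↦ ⟨⋃ (k : κ) (_ : f k = i), Set.range (g k).left,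
    isOpen_iUnion fun k ↦ isOpen_iUnion fun _ ↦ (hg k).isOpen_range⟩
  have hO : ∀ i (t : ↥T.left), t ∈ O i ↔ ∃ k, f k = i ∧ ∃ z, (g k).left z = t := fun i t ↦ by
    simp [O]
  let V : ι → Over S := fun i ↦ Over.mk ((O i).ι ≫ T.hom)
  let u : ∀ i, V i ⟶ T := fun i ↦ Over.homMk (O i).ι
  have hlift : ∀ i, ∃ x : (yon S).obj (V i) ⟶ F i, x ≫ c.inj i = (yon S).map (u i) ≫ b := by
    intro i
    have hmem : ∀ k : {k // f k = i}, Set.range (g k).left ⊆ Set.range (O i).ι := fun k ↦ by
      rw [Scheme.Opens.range_ι]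
      rintro _ ⟨z, rfl⟩
      exact (hO i _).2 ⟨k, k.2, z, rfl⟩
    let g' : ∀ k : {k // f k = i}, Z k ⟶ V i := fun k ↦
      Over.homMk (IsOpenImmersion.lift (O i).ι (g k).left (hmem k)) (by
        change IsOpenImmersion.lift (O i).ι (g k).left (hmem k) ≫ (O i).ι ≫ T.hom = (Z k).hom
        rw [IsOpenImmersion.lift_fac_assoc, Over.w])
    have hg' : ∀ k, g' k ≫ u i = g k := fun k ↦
      Over.OverMorphism.ext (IsOpenImmersion.lift_fac _ _ _)
    have hga : ∀ k : {k // f k = i}, ∃ a' : (yon S).obj (Z k) ⟶ F i,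
        a' ≫ c.inj i = (yon S).map (g k) ≫ b := by
      rintro ⟨k, rfl⟩
      exact ⟨a k, ha k⟩
    choose a' ha' using hga
    have hfl : ∀ k : {k // f k = i}, Flat (g' k).left ∧
        LocallyOfFinitePresentation (g' k).left := fun k ↦ by
      have h1 : Flat (g k.1).left ∧ LocallyOfFinitePresentation (g k.1).left := by
        have := hp.1.2
        have := hp.2
        rw [← hpg k.1, Over.comp_left]
        haveI : Flat (sigmaOverι Z k.1).left :=
          inferInstanceAs (Flat (Sigma.ι (fun k ↦ (Z k).left) k.1))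
        haveI : LocallyOfFinitePresentation (sigmaOverι Z k.1).left :=
          inferInstanceAs (LocallyOfFinitePresentation (Sigma.ι (fun k ↦ (Z k).left) k.1))
        exact ⟨inferInstance, inferInstance⟩
      rw [← hg' k, Over.comp_left] at h1
      exact ⟨MorphismProperty.of_postcomp (W := @Flat) (W' := @IsOpenImmersion) _ (u i).left
          (inferInstanceAs (IsOpenImmersion (O i).ι)) h1.1,
        MorphismProperty.of_postcomp (W := @LocallyOfFinitePresentation) (W' := @IsOpenImmersion) _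
          (u i).left (inferInstanceAs (IsOpenImmersion (O i).ι)) h1.2⟩
    obtain ⟨x, hx, -⟩ := exists_desc_of_family (fun k : {k // f k = i} ↦ Z k) g'
      (ofArrows_mem_J _ _ (fun k ↦ (hfl k).1) (fun k ↦ (hfl k).2) fun t ↦ by
        obtain ⟨k, hk, z, hz⟩ := (hO i _).1 t.2
        refine ⟨⟨k, hk⟩, z, (O i).ι.injective ?_⟩
        exact ((Scheme.Hom.comp_apply _ _ _).symm.trans
          (congr($(IsOpenImmersion.lift_fac (O i).ι (g k).left (hmem ⟨k, hk⟩)) z))).trans hz)
      a' fun k k' W gk gk' e ↦ by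
        rw [← cancel_mono (c.inj i), Category.assoc, Category.assoc, ha', ha', ← hg' k, ← hg' k',
          ← Functor.map_comp_assoc, ← Functor.map_comp_assoc, ← Category.assoc, e, Category.assoc]
    refine ⟨x, hom_ext_of_family (fun k : {k // f k = i} ↦ Z k) g'
      (ofArrows_mem_J _ _ (fun k ↦ (hfl k).1) (fun k ↦ (hfl k).2) fun t ↦ by
        obtain ⟨k, hk, z, hz⟩ := (hO i _).1 t.2
        refine ⟨⟨k, hk⟩, z, (O i).ι.injective ?_⟩
        exact ((Scheme.Hom.comp_apply _ _ _).symm.trans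
          (congr($(IsOpenImmersion.lift_fac (O i).ι (g k).left (hmem ⟨k, hk⟩)) z))).trans hz)
      fun k ↦ ?_⟩
    rw [reassoc_of% hx k, ha', ← Functor.map_comp_assoc, hg']
  choose x hx using hlift
  have hopen : ∀ i, IsOpenImmersion (u i).left := fun i ↦
    inferInstanceAs (IsOpenImmersion (O i).ι)
  have hcl : ∀ i, IsClosed (Set.range (u i).left) := fun i ↦ by
    rw [show Set.range (u i).left = (O i : Set ↥T.left) from Scheme.Opens.range_ι _,
      ← isOpen_compl_iff]
    have : ((O i : Set ↥T.left))ᶜ = ⋃ (j : ι) (_ : j ≠ i), (O j : Set ↥T.left) := by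
      ext t
      simp only [Set.mem_compl_iff, SetLike.mem_coe, Set.mem_iUnion, exists_prop]
      constructor
      · intro ht
        obtain ⟨k, z, rfl⟩ := hcov t
        exact ⟨f k, fun e ↦ ht ((hO i _).2 ⟨k, e, z, rfl⟩), (hO _ _).2 ⟨k, rfl, z, rfl⟩⟩
      · rintro ⟨j, hj, ht⟩ ht'
        obtain ⟨k, rfl, z, rfl⟩ := (hO _ _).1 ht
        obtain ⟨k', rfl, z', hz'⟩ := (hO _ _).1 ht'
        exact hdis k' k hj.symm z' z hz'
    rw [this]
    exact isOpen_iUnion fun j ↦ isOpen_iUnion fun _ ↦ (O j).2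
  have hsurj : ∀ t : ↥T.left, ∃ i y, (u i).left y = t := fun t ↦ by
    obtain ⟨k, z, rfl⟩ := hcov t
    exact ⟨f k, ⟨(g k).left z, (hO _ _).2 ⟨k, rfl, z, rfl⟩⟩, rfl⟩
  refine ⟨V, u, x, fun i ↦ ⟨hopen i, ?_⟩, hsurj, hx, fun i ↦ isPullback_of_family hc u hsurj x hx i⟩
  have := hopen i
  exact IsClosedImmersion.of_isPreimmersion _ (hcl i)

/-- The coprojections are open and closed immersions. -/
theorem repWith_inj {c : Cofan F} (hc : IsColimit c) (i : ι) :
    RepWith (@IsOpenImmersion ⊓ @IsClosedImmersion) (c.inj i) := by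
  refine repWith_of_exists fun T b ↦ ?_
  obtain ⟨V, u, x, hu, -, -, hsq⟩ := exists_decomposition hc b
  exact ⟨V i, u i, x i, hsq i, (hu i).1, (hu i).2⟩

theorem repWith_isOpenImmersion_inj {c : Cofan F} (hc : IsColimit c) (i : ι) :
    RepWith @IsOpenImmersion (c.inj i) :=
  repWith_mono (repWith_inj hc i) fun _ _ _ h ↦ h.1

/-- A coproduct of schemes is a coproduct of sheaves. -/
noncomputable def isColimitSigmaOver (Z : ι → Over S) :
    IsColimit (Cofan.mk ((yon S).obj (sigmaOver Z)) fun i ↦ (yon S).map (sigmaOverι Z i)) :=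
  Cofan.IsColimit.mk _ (fun s ↦ (existsUnique_sigmaOver_desc Z s.inj).exists.choose)
    (fun s ↦ (existsUnique_sigmaOver_desc Z s.inj).exists.choose_spec)
    (fun s m hm ↦ (existsUnique_sigmaOver_desc Z s.inj).unique hm
      (existsUnique_sigmaOver_desc Z s.inj).exists.choose_spec)

/-- Universality: fibre products of a map out of a coproduct with a scheme. -/
theorem isPullback_sigma {c : Cofan F} (hc : IsColimit c) {H : Sp S} {h : c.pt ⟶ H} {T : Over S}
    {ξ : (yon S).obj T ⟶ H} {W : ι → Over S} {q : ∀ i, W i ⟶ T}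
    {x : ∀ i, (yon S).obj (W i) ⟶ F i}
    (sq : ∀ i, IsPullback (x i) ((yon S).map (q i)) (c.inj i ≫ h) ξ) :
    ∃ (fst : (yon S).obj (sigmaOver W) ⟶ c.pt) (Q : sigmaOver W ⟶ T),
      (∀ i, sigmaOverι W i ≫ Q = q i) ∧
      (∀ i, (yon S).map (sigmaOverι W i) ≫ fst = x i ≫ c.inj i) ∧
      IsPullback fst ((yon S).map Q) h ξ := by
  obtain ⟨fst, hfst, -⟩ := existsUnique_sigmaOver_desc W fun i ↦ x i ≫ c.inj i
  obtain ⟨Q, hQ⟩ := exists_sigmaOver_desc q
  have hop : ∀ i, IsOpenImmersion (sigmaOverι W i).left := fun i ↦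
    inferInstanceAs (IsOpenImmersion (Sigma.ι (fun i ↦ (W i).left) i))
  have hW : ∀ t : ↥(sigmaOver W).left, ∃ i y, (sigmaOverι W i).left y = t := fun t ↦ by
    obtain ⟨i, y, hy⟩ := (sigmaOpenCover (fun i ↦ (W i).left)).exists_eq t
    exact ⟨i, y, hy⟩
  have hWsq := isPullback_of_family hc (sigmaOverι W) hW x fun i ↦ (hfst i).symm
  refine ⟨fst, Q, hQ, hfst, isPullback_of_yon ?_ (fun T' z z' h1 h2 ↦ ?_) fun T' z w e ↦ ?_⟩
  · refine hom_ext_of_family W _ (sigmaOverι_mem_J W) fun i ↦ ?_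
    rw [reassoc_of% (hfst i), ← Functor.map_comp_assoc, hQ, (sq i).w]
  · obtain ⟨z, rfl⟩ := (yon S).map_surjective z
    obtain ⟨z', rfl⟩ := (yon S).map_surjective z'
    obtain ⟨V, u, y, hu, hcov, hy, -⟩ := exists_decomposition hc ((yon S).map z ≫ fst)
    refine hom_ext_of_family V u (ofArrows_mem_J _ _ (fun i ↦ have := (hu i).1; inferInstance)
      (fun i ↦ have := (hu i).1; inferInstance) hcov) fun i ↦ ?_
    have e1 : y i ≫ c.inj i = (yon S).map (u i ≫ z) ≫ fst := by
      rw [hy i, Functor.map_comp, Category.assoc]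
    have e2 : y i ≫ c.inj i = (yon S).map (u i ≫ z') ≫ fst := by
      rw [hy i, Functor.map_comp, Category.assoc, h1]
    obtain ⟨z₁, hz₁⟩ := (yon S).map_surjective ((hWsq i).lift _ _ e1)
    obtain ⟨z₂, hz₂⟩ := (yon S).map_surjective ((hWsq i).lift _ _ e2)
    have a1 : (yon S).map z₁ ≫ (yon S).map (sigmaOverι W i) = (yon S).map (u i ≫ z) := by
      rw [hz₁, (hWsq i).lift_snd]
    have a2 : (yon S).map z₂ ≫ (yon S).map (sigmaOverι W i) = (yon S).map (u i ≫ z') := by
      rw [hz₂, (hWsq i).lift_snd]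
    rw [← Functor.map_comp, ← Functor.map_comp, ← a1, ← a2]
    congr 1
    refine (sq i).hom_ext ?_ ?_
    · rw [hz₁, hz₂, (hWsq i).lift_fst, (hWsq i).lift_fst]
    · rw [← hQ i, Functor.map_comp, reassoc_of% a1, reassoc_of% a2, Functor.map_comp,
        Functor.map_comp, Category.assoc, Category.assoc, h2]
  · obtain ⟨V, u, y, hu, hcov, hy, hsq⟩ := exists_decomposition hc z
    have hl : ∀ i, ∃ v : V i ⟶ W i, (yon S).map v ≫ x i = y i ∧
        (yon S).map (v ≫ q i) = (yon S).map (u i) ≫ w := fun i ↦ by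
      obtain ⟨v, hv⟩ := (yon S).map_surjective ((sq i).lift (y i) ((yon S).map (u i) ≫ w)
        (by rw [reassoc_of% (hy i), e, Category.assoc]))
      exact ⟨v, by rw [hv, (sq i).lift_fst], by rw [Functor.map_comp, hv, (sq i).lift_snd]⟩
    choose v hv hv' using hl
    obtain ⟨m, hm, -⟩ := exists_desc_of_family V u
      (ofArrows_mem_J _ _ (fun i ↦ have := (hu i).1; inferInstance)
        (fun i ↦ have := (hu i).1; inferInstance) hcov)
      (fun i ↦ (yon S).map (v i ≫ sigmaOverι W i)) fun i j T'' gi gj e' ↦ by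
        by_cases hij : i = j
        · subst hij
          have := (hu i).1
          have : Mono (u i) := (Over.forget S).mono_of_mono_map (inferInstanceAs (Mono (u i).left))
          rw [(cancel_mono (u i)).1 e']
        · have : IsEmpty ↥T''.left := ⟨fun t ↦ disjoint_range_of_family hc u y hy hij
            (gi.left t) (gj.left t) (by
              rw [← Scheme.Hom.comp_apply, ← Scheme.Hom.comp_apply, ← Over.comp_left,
                ← Over.comp_left, e'])⟩
          exact (subsingleton_yon_hom_of_isEmpty _ T'').elim _ _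
    refine ⟨m, hom_ext_of_family V u (ofArrows_mem_J _ _
        (fun i ↦ have := (hu i).1; inferInstance) (fun i ↦ have := (hu i).1; inferInstance) hcov)
      fun i ↦ ?_, hom_ext_of_family V u (ofArrows_mem_J _ _
        (fun i ↦ have := (hu i).1; inferInstance) (fun i ↦ have := (hu i).1; inferInstance) hcov)
      fun i ↦ ?_⟩
    · rw [reassoc_of% (hm i), Functor.map_comp, Category.assoc, hfst, reassoc_of% (hv i), hy i]
    · rw [reassoc_of% (hm i), ← Functor.map_comp, Category.assoc, hQ, hv' i]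

/-- A map out of a coproduct has `P`, local on the source, if all its components do. -/
theorem repWith_of_inj {c : Cofan F} (hc : IsColimit c) {H : Sp S} {h : c.pt ⟶ H}
    (P : MorphismProperty Scheme.{u}) [P.IsStableUnderBaseChange] [IsZariskiLocalAtSource P]
    (hP : ∀ i, RepWith P (c.inj i ≫ h)) : RepWith P h := by
  refine repWith_of_exists fun T ξ ↦ ?_
  choose W q x sq hq using fun i ↦ repWith_exists (hP i) ξ
  obtain ⟨fst, Q, hQ, -, hsq⟩ := isPullback_sigma hc sq
  refine ⟨_, Q, fst, hsq, ?_⟩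
  have : Q.left = Sigma.desc (fun i ↦ (q i).left) := Sigma.hom_ext _ _ fun i ↦ by
    rw [Sigma.ι_desc]
    exact congr($(hQ i).left)
  rw [this]
  exact IsZariskiLocalAtSource.sigmaDesc hq

theorem representable_of_inj {c : Cofan F} (hc : IsColimit c) {H : Sp S} {h : c.pt ⟶ H}
    (hP : ∀ i, Representable (c.inj i ≫ h)) : Representable h := by
  intro T ξ
  obtain ⟨fst, Q, -, -, hsq⟩ := isPullback_sigma hc fun i ↦ (hP i).isPullback ξ
  exact ⟨_, Q, fst, hsq⟩

/-- Coproducts of algebraic spaces are algebraic spaces. -/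
theorem isAlgSpace_cofan_pt {c : Cofan F} (hc : IsColimit c) (h : ∀ i, IsAlgSpace (F i)) :
    IsAlgSpace c.pt := by
  have hdiag : Representable (Limits.diag c.pt) := by
    refine representable_diag_of_forall fun T' T b' b ↦ ?_
    obtain ⟨V, u, x, hu, hcov, hx, hsq⟩ := exists_decomposition hc b'
    obtain ⟨e, he, -⟩ := existsUnique_sigmaOver_desc V fun i ↦ (yon S).map (u i)
    obtain ⟨E, hE⟩ := exists_sigmaOver_desc u
    have : IsIso E.left := by
      have h0 : E.left = Sigma.desc fun i ↦ (u i).left := Sigma.hom_ext _ _ fun i ↦ by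
        rw [Sigma.ι_desc]
        exact congr($(hE i).left)
      rw [h0, isIso_iff_isOpenImmersion_and_surjective]
      have := fun i ↦ (hu i).1
      refine ⟨isOpenImmersion_sigmaDesc _ _ fun i j hij ↦ Set.disjoint_iff_forall_ne.2 ?_,
        ⟨fun t ↦ ?_⟩⟩
      · rintro _ ⟨y, rfl⟩ _ ⟨z, rfl⟩
        exact disjoint_range_of_family hc u x hx hij y z
      · obtain ⟨i, y, hy⟩ := hcov t
        refine ⟨Sigma.ι (fun i ↦ (V i).left) i y, ?_⟩
        rw [← Scheme.Hom.comp_apply, Sigma.ι_desc, hy]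
    have : IsIso ((Over.forget S).map E) := this
    have : IsIso E := isIso_of_reflects_iso E (Over.forget S)
    have hb : Representable ((yon S).map E ≫ b') := by
      refine representable_of_inj (isColimitSigmaOver V) fun i ↦ ?_
      change Representable ((yon S).map (sigmaOverι V i) ≫ (yon S).map E ≫ b')
      rw [← Functor.map_comp_assoc, hE, ← hx i]
      exact MorphismProperty.comp_mem Representable _ _ ((h i).representable_from_yon _)
        (repWith_inj hc i).rep
    have hb' : Representable b' := (MorphismProperty.cancel_left_of_respectsIso Representable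
      ((yon S).map E) b').1 hb
    exact ⟨hb'.pullback b, hb'.fst' b, hb'.snd b, hb'.isPullback' b⟩
  refine ⟨hdiag, ?_⟩
  choose U p he hs using fun i ↦ (h i).atlas
  obtain ⟨π, hπ, -⟩ := existsUnique_sigmaOver_desc U fun i ↦ p i ≫ c.inj i
  refine ⟨_, π, repWith_of_inj (isColimitSigmaOver U) @Etale fun i ↦ ?_, ?_⟩
  · change RepWith @Etale ((yon S).map (sigmaOverι U i) ≫ π)
    rw [hπ i]
    exact repWith_comp (he i) (repWith_mono (repWith_inj hc i) fun _ _ g hg ↦
      have : IsOpenImmersion g := hg.1; inferInstance)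
  · refine repWith_of_exists fun T ξ ↦ ?_
    have hπrep := representable_from_yon hdiag π
    refine ⟨_, hπrep.snd ξ, hπrep.fst ξ, hπrep.isPullback ξ, ⟨fun t ↦ ?_⟩⟩
    obtain ⟨V, u, x, hu, hcov, hx, hsq⟩ := exists_decomposition hc ξ
    obtain ⟨i, y, rfl⟩ := hcov t
    obtain ⟨W, w, z, sqw, hw⟩ := repWith_exists (hs i) (x i)
    obtain ⟨y', rfl⟩ := hw.surj y
    have key : ((yon S).map (sigmaOverι U i)) ≫ π = p i ≫ c.inj i := hπ i
    obtain ⟨l, hl⟩ := (yon S).map_surjective
      ((hπrep.isPullback ξ).lift (z ≫ (yon S).map (sigmaOverι U i)) ((yon S).map (w ≫ u i)) (by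
        rw [Category.assoc, key, reassoc_of% sqw.w, hx i, Functor.map_comp, Category.assoc]))
    refine ⟨l.left y', ?_⟩
    rw [← Scheme.Hom.comp_apply, ← Over.comp_left,
      show l ≫ hπrep.snd ξ = w ≫ u i from (yon S).map_injective (by
        rw [Functor.map_comp, hl, (hπrep.isPullback ξ).lift_snd])]
    rfl

end Groth.Agent.Lib.AlgSpace
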